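import Cfsg.Agent.Lib.Char.Exceptional.SLProjective.Main
import Cfsg.Agent.Lib.Blocks.Counting
import Cfsg.Agent.Lib.Blocks.DefectOne.Count
import Cfsg.Agent.Lib.Char.DegreeCenter

/-!
# The number of blocks of the special linear group in its own characteristic
-/

set_option autoImplicit false
set_option linter.all false

namespace CfsgLib.SLProjective

open Cfsg CfsgLib.Blocks Matrix

section Central

variable {G : Type*} [Group G]

theorem apply_central_mul (χ : IrrCharacter G) {w : G} (hw : w ∈ Subgroup.center G) (z : G) :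
    (χ : G → ℂ) (w * z) * (χ : G → ℂ) 1 = (χ : G → ℂ) w * (χ : G → ℂ) z := by
  obtain ⟨χ, n, ρ, hρ, rfl⟩ := χ
  haveI := hρ
  obtain ⟨c, hc⟩ := CfsgLib.CharIntegral.exists_scalar_of_mem_center ρ hw
  have h1 := CfsgLib.CharIntegral.character_smul_of_scalar ρ hc 1
  rw [mul_one] at h1
  show ρ.character (w * z) * ρ.character 1 = ρ.character w * ρ.character z
  rw [CfsgLib.CharIntegral.character_smul_of_scalar ρ hc z, h1]
  ring

/-- The linear character of the centre under an irreducible character. -/
noncomputable def lam (χ : IrrCharacter G) (z : Subgroup.center G) : ℂ :=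
  (χ : G → ℂ) z / (χ : G → ℂ) 1

theorem lam_mul (χ : IrrCharacter G) (w z : Subgroup.center G) : lam χ (w * z) = lam χ w * lam χ z := by
  have h := apply_central_mul χ w.2 (z : G)
  have h1 := CfsgLib.Char.IsIrr.apply_one_ne_zero χ.2
  simp only [lam, Subgroup.coe_mul]
  rw [div_mul_div_comm, ← h, mul_div_mul_right _ _ h1]

theorem lam_one (χ : IrrCharacter G) : lam χ 1 = 1 :=
  div_self (CfsgLib.Char.IsIrr.apply_one_ne_zero χ.2)

theorem centralChar_center (χ : IrrCharacter G) (z : Subgroup.center G) :
    centralChar (χ : G → ℂ) z = lam χ z := by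
  have h : Subgroup.centralizer ({(z : G)} : Set G) = ⊤ :=
    eq_top_iff.2 fun x _ => Subgroup.mem_centralizer_singleton_iff.2 (Subgroup.mem_center_iff.1 z.2 x)
  simp [centralChar, lam, h]

variable [Fintype G] {p : ℕ} [Fact p.Prime] {M : Ideal AlgInt} [M.IsPrime]

theorem lam_pow_card (χ : IrrCharacter G) (z : Subgroup.center G) :
    lam χ z ^ Nat.card (Subgroup.center G) = 1 := by
  let f : Subgroup.center G →* ℂ := { toFun := lam χ, map_one' := lam_one χ, map_mul' := lam_mul χ }
  show f z ^ _ = 1
  rw [← map_pow, pow_card_eq_one', map_one]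

/-- Characters in one block agree on a centre of order prime to `p`. -/
theorem lam_eq_of_sameBlock (hM : IsPModular p M) (hp : ¬ p ∣ Nat.card (Subgroup.center G))
    {χ ψ : IrrCharacter G} (h : SameBlock M (χ : G → ℂ) (ψ : G → ℂ)) : lam χ = lam ψ := by
  funext z
  set m := Nat.card (Subgroup.center G) with hm
  have hm0 : m ≠ 0 := Nat.card_pos.ne'
  let a : localRing M := ⟨lam χ z, centralChar_center χ z ▸ mem_localRing_of_isIntegral (isIntegral_centralChar χ _)⟩
  let b : localRing M := ⟨lam ψ z, centralChar_center ψ z ▸ mem_localRing_of_isIntegral (isIntegral_centralChar ψ _)⟩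
  have ha : a ^ m = 1 := Subtype.ext (lam_pow_card χ z)
  have hb : b ^ m = 1 := Subtype.ext (lam_pow_card ψ z)
  have hres : resHom M a = resHom M b := by
    rw [residue_eq_iff]
    show MemLocalIdeal M (lam χ z - lam ψ z)
    rw [← centralChar_center, ← centralChar_center]
    exact h _
  set c := a * b ^ (m - 1) with hcdef
  have hbm : b ^ (m - 1) * b = 1 := by rw [← pow_succ, Nat.sub_add_cancel (Nat.pos_of_ne_zero hm0), hb]
  have hcm : c ^ m = 1 := by
    rw [hcdef, mul_pow, ha, ← pow_mul, mul_comm (m - 1), pow_mul, hb, one_pow, one_mul]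
  have hc1 : resHom M c = 1 := by
    rw [hcdef, map_mul, hres, ← map_mul, mul_comm b, hbm, map_one]
  have hc : c = 1 := by
    by_contra hne
    have hsum : ∑ i ∈ Finset.range m, c ^ i = 0 := by
      have h2 := geom_sum_mul c m
      rw [hcm, sub_self] at h2
      exact (mul_eq_zero.1 h2).resolve_right (sub_ne_zero.2 hne)
    have h0 := congrArg (resHom M) hsum
    rw [map_sum, Finset.sum_congr rfl (fun i _ => by rw [map_pow, hc1, one_pow]), Finset.sum_const,
      Finset.card_range, nsmul_one, map_zero] at h0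
    haveI := charP_residueField hM
    exact hp ((CharP.cast_eq_zero_iff (Res M) p m).1 h0)
  have hab : a = b := by
    calc a = a * (b ^ (m - 1) * b) := by rw [hbm, mul_one]
      _ = c * b := by rw [hcdef, mul_assoc]
      _ = b := by rw [hc, one_mul]
  exact congrArg Subtype.val hab

omit [Fintype G] in
/-- A family of characters meeting every central character has at least as many members as the centre. -/
theorem card_center_le_of_cover [Finite G] {ι : Type*} [Fintype ι] (r : ι → IrrCharacter G)
    (h : ∀ χ, ∃ i, lam (r i) = lam χ) : Nat.card (Subgroup.center G) ≤ Fintype.card ι := by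
  classical
  haveI := Fintype.ofFinite G
  haveI := Fintype.ofFinite (IrrCharacter G)
  let v : ι → (Subgroup.center G → ℂ) := fun i => lam (r i)
  have hlam : ∀ χ, lam χ ∈ Submodule.span ℂ (Set.range v) := fun χ => by
    obtain ⟨i, hi⟩ := h χ
    exact hi ▸ Submodule.subset_span ⟨i, rfl⟩
  have htop : Submodule.span ℂ (Set.range v) = ⊤ := by
    refine eq_top_iff.2 fun f _ => ?_
    have hf : f = ∑ w, f w • ((Nat.card G : ℂ)⁻¹ •
        ∑ χ : IrrCharacter G, ((χ : G → ℂ) 1 ^ 2 * lam χ w⁻¹) • lam χ) := by
      funext z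
      simp only [Finset.sum_apply, Pi.smul_apply, smul_eq_mul, mul_assoc, ← lam_mul]
      have hval : ∀ w : Subgroup.center G, ∑ χ : IrrCharacter G, (χ : G → ℂ) 1 ^ 2 * lam χ (w⁻¹ * z) =
          if w = z then (Nat.card G : ℂ) else 0 := by
        intro w
        have hterm : ∀ χ : IrrCharacter G, (χ : G → ℂ) 1 ^ 2 * lam χ (w⁻¹ * z) =
            (χ : G → ℂ) 1 * (χ : G → ℂ) ((w⁻¹ * z : Subgroup.center G) : G) := by
          intro χ
          have h1 := CfsgLib.Char.IsIrr.apply_one_ne_zero χ.2
          simp only [lam]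
          field_simp
        rw [Finset.sum_congr rfl fun χ _ => hterm χ]
        split_ifs with hwz
        · subst hwz
          rw [inv_mul_cancel, Subgroup.coe_one, ← CfsgLib.Char.sum_sq_degree]
          simp only [sq]
        · refine CfsgLib.Char.sum_degree_mul_apply_of_ne_one fun he => hwz ?_
          exact inv_mul_eq_one.1 (Subtype.ext he)
      simp [hval]
    rw [hf]
    exact Submodule.sum_mem _ fun w _ => Submodule.smul_mem _ _ (Submodule.smul_mem _ _
      (Submodule.sum_mem _ fun χ _ => Submodule.smul_mem _ _ (hlam χ)))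
  have hle := finrank_range_le_card (R := ℂ) v
  rw [Set.finrank, htop, finrank_top, Module.finrank_fintype_fun_eq_card, ← Nat.card_eq_fintype_card] at hle
  exact hle

end Central

section SL

variable {m : ℕ} {F : Type*} [Field F] [Fintype F] {p : ℕ} [Fact p.Prime] [CharP F p] {M : Ideal AlgInt}
  [M.IsPrime]

local notation "SLn" => SpecialLinearGroup (Fin (m + 1)) F

omit [Fintype F] in
theorem exists_order_p (hm : 1 ≤ m) : ∃ t : SpecialLinearGroup (Fin (m + 1)) F, orderOf t = p := by
  let i : Fin (m + 1) := 0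
  let j : Fin (m + 1) := ⟨1, by omega⟩
  have hij : i ≠ j := fun e => by simpa [i, j] using congrArg Fin.val e
  let t : SpecialLinearGroup (Fin (m + 1)) F :=
    ⟨1 + Matrix.single i j 1, det_one_add_eq_one p (by rw [Matrix.single_mul_single_of_ne _ _ _ _ hij.symm])⟩
  refine ⟨t, orderOf_eq_prime (Subtype.ext ?_) fun h => ?_⟩
  · refine (Matrix.SpecialLinearGroup.coe_pow t p).trans ?_
    show (1 + Matrix.single i j (1 : F)) ^ p = 1
    rw [add_pow_char_of_commute p (Commute.one_left _), one_pow, ← Nat.sub_add_cancel (Fact.out : p.Prime).two_le,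
      pow_add, sq, Matrix.single_mul_single_of_ne _ _ _ _ hij.symm, mul_zero, add_zero]
  · have := congrArg (fun x : SpecialLinearGroup (Fin (m + 1)) F => x.1 i j) h
    simp [t, hij] at this

theorem not_dvd_card_center : ¬ p ∣ Nat.card (Subgroup.center (SpecialLinearGroup (Fin (m + 1)) F)) := by
  rw [CfsgLib.Classical.card_center_SL]
  intro h
  have h1 := h.trans (Nat.gcd_dvd_right _ _)
  obtain ⟨e, hp, he⟩ := FiniteField.card F p
  have h2 : p ∣ Fintype.card F := he ▸ dvd_pow_self p e.ne_zero
  have hq : 1 ≤ Fintype.card F := Fintype.card_pos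
  have h3 := Nat.dvd_sub h2 h1
  rw [show Fintype.card F - (Fintype.card F - 1) = 1 by omega] at h3
  exact (Fact.out : p.Prime).one_lt.ne' (Nat.dvd_one.1 h3)

/-- The Steinberg character is trivial on the centre. -/
theorem exists_st_lam :
    ∃ χ : IrrCharacter (SpecialLinearGroup (Fin (m + 1)) F),
      (charDegree (χ : SpecialLinearGroup (Fin (m + 1)) F → ℂ)).factorization p =
        (Nat.card (SpecialLinearGroup (Fin (m + 1)) F)).factorization p ∧ ∀ z, lam χ z = 1 := by
  classical
  obtain ⟨ψ, hψ, hS⟩ := CfsgLib.PSLSteinberg.exists_steinberg (n := m + 1) (F := F) p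
  let f := QuotientGroup.mk' (Subgroup.center (SpecialLinearGroup (Fin (m + 1)) F))
  have hχ : IsIrrCharacter (SpecialLinearGroup (Fin (m + 1)) F) (fun x => ψ (f x)) :=
    CfsgLib.Char.IsIrr.comp_surjective f (QuotientGroup.mk'_surjective _) hψ
  let χ : IrrCharacter (SpecialLinearGroup (Fin (m + 1)) F) := ⟨_, hχ⟩
  refine ⟨χ, ?_, fun z => ?_⟩
  · obtain ⟨S⟩ : Nonempty (Sylow p (ProjectiveSpecialLinearGroup (Fin (m + 1)) F)) := inferInstance
    have h1 : (χ : SpecialLinearGroup (Fin (m + 1)) F → ℂ) 1 = (Nat.card S : ℂ) := by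
      show ψ (f 1) = _
      rw [map_one]
      exact (hS S).1
    have h2 := (apply_one_eq_charDegree χ).symm.trans h1
    rw [Nat.cast_inj] at h2
    rw [h2, S.card_eq_multiplicity, Nat.Prime.factorization_pow Fact.out, Finsupp.single_eq_same]
    rw [Subgroup.card_eq_card_quotient_mul_card_subgroup (Subgroup.center (SpecialLinearGroup (Fin (m + 1)) F)),
      Nat.factorization_mul Nat.card_pos.ne' Nat.card_pos.ne', Finsupp.add_apply,
      Nat.factorization_eq_zero_of_not_dvd not_dvd_card_center, add_zero]
  · have hz : f (z : SpecialLinearGroup (Fin (m + 1)) F) = 1 := (QuotientGroup.eq_one_iff _).2 z.2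
    show ψ (f z) / ψ (f 1) = 1
    rw [hz, map_one]
    exact div_self (CfsgLib.Char.IsIrr.apply_one_ne_zero hψ)

/-- The number of `p`-blocks of `SL(n, q)`, `q` a power of `p`. -/
theorem card_blocks (hm : 1 ≤ m) (hM : IsPModular p M) :
    Nat.card {B : Set (IrrCharacter (SpecialLinearGroup (Fin (m + 1)) F)) // IsPBlock M B} =
      Nat.gcd (m + 1) (Fintype.card F - 1) + 1 := by
  classical
  haveI : Fintype (IrrCharacter (SpecialLinearGroup (Fin (m + 1)) F)) := Fintype.ofFinite _
  set a := (Nat.card (SpecialLinearGroup (Fin (m + 1)) F)).factorization p with ha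
  have hcc : Nat.card (Subgroup.center (SpecialLinearGroup (Fin (m + 1)) F)) =
      Nat.gcd (m + 1) (Fintype.card F - 1) := by
    rw [CfsgLib.Classical.card_center_SL, Fintype.card_fin]
  rw [← hcc]
  have ha0 : a ≠ 0 := by
    obtain ⟨t, ht⟩ := exists_order_p (F := F) (p := p) hm
    exact ((Fact.out : p.Prime).factorization_pos_of_dvd Nat.card_pos.ne' (ht ▸ orderOf_dvd_natCard t)).ne'
  obtain ⟨χ₀, hd₀, hl₀⟩ := exists_st_lam (m := m) (F := F) (p := p)
  have hB₀ := blockDefect_blockOf (M := M) hM χ₀ hd₀
  -- the blocks of full defect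
  let T := {B : Set (IrrCharacter (SpecialLinearGroup (Fin (m + 1)) F)) // IsPBlock M B ∧ blockDefect p B = a}
  haveI : Fintype T := Fintype.ofFinite _
  have hcover : Nat.card (Subgroup.center (SpecialLinearGroup (Fin (m + 1)) F)) ≤ Fintype.card T := by
    choose r hr using fun B : T => IsPBlock.nonempty B.2.1
    refine card_center_le_of_cover r fun χ => ?_
    rcases defect_zero_or_full hM (isPBlock_blockOf (M := M) χ) with h | h
    · have he := eq_of_defect_zero hm hM (isPBlock_blockOf χ) (isPBlock_blockOf χ₀) h hB₀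
      have hχ : lam χ = lam χ₀ := (lam_eq_of_sameBlock hM not_dvd_card_center (he ▸ mem_blockOf_self χ :
        χ ∈ blockOf M (χ₀ : SpecialLinearGroup (Fin (m + 1)) F → ℂ))).symm
      let P : T := ⟨principalBlock M (SpecialLinearGroup (Fin (m + 1)) F),
        ⟨CfsgLib.Char.trivChar _, rfl⟩, CfsgLib.DefectOne.blockDefect_principal M _⟩
      refine ⟨P, ?_⟩
      have h1 : SameBlock M ((CfsgLib.Char.trivChar (SpecialLinearGroup (Fin (m + 1)) F) :
          IrrCharacter _) : SpecialLinearGroup (Fin (m + 1)) F → ℂ) (r P : SpecialLinearGroup (Fin (m + 1)) F → ℂ) := hr P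
      rw [hχ, ← lam_eq_of_sameBlock hM not_dvd_card_center h1]
      funext z
      rw [hl₀]
      simp [lam, CfsgLib.Char.trivChar_apply]
    · let P : T := ⟨_, isPBlock_blockOf χ, h⟩
      exact ⟨P, (lam_eq_of_sameBlock hM not_dvd_card_center (hr P)).symm⟩
  have hupper : Nat.card T ≤ Nat.card (Subgroup.center (SpecialLinearGroup (Fin (m + 1)) F)) := by
    refine le_trans (Nat.card_le_card_of_injective
      (fun B : T => (⟨B.1, B.2.1, B.2.2.ge⟩ : {B : Set (IrrCharacter (SpecialLinearGroup (Fin (m + 1)) F)) //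
        IsPBlock M B ∧ a ≤ blockDefect p B})) fun B B' h => Subtype.ext (congrArg Subtype.val h :)) ?_
    refine le_trans (card_blocks_defect_ge_le hM a) ?_
    refine le_trans (Nat.card_le_card_of_injective
      (fun C => (⟨C.1, ?_⟩ : Set.range fun z : Subgroup.center (SpecialLinearGroup (Fin (m + 1)) F) =>
        ConjClasses.mk (z : SpecialLinearGroup (Fin (m + 1)) F))) fun C C' h => Subtype.ext (congrArg Subtype.val h :))
      (Finite.card_range_le _)
    obtain ⟨g, hgC, hreg, hle⟩ := C.2
    refine ⟨⟨g, ?_⟩, hgC⟩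
    obtain ⟨Q⟩ : Nonempty (Sylow p (Subgroup.centralizer ({g} : Set (SpecialLinearGroup (Fin (m + 1)) F)))) :=
      inferInstance
    let D := (Q : Subgroup _).map (Subgroup.centralizer ({g} : Set (SpecialLinearGroup (Fin (m + 1)) F))).subtype
    have hDp : IsPGroup p D := Q.2.map _
    have hDc : Nat.card D = p ^ a := by
      rw [Subgroup.card_map_of_injective (Subgroup.subtype_injective _), Q.card_eq_multiplicity]
      exact congrArg (p ^ ·) (le_antisymm ((Nat.factorization_le_iff_dvd Nat.card_pos.ne' Nat.card_pos.ne').2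
        (Subgroup.card_subgroup_dvd_card _) p) hle)
    have hne : D ≠ ⊥ := fun h => by
      rw [h, Subgroup.card_bot] at hDc
      exact ha0 ((Nat.pow_eq_one.1 hDc.symm).resolve_left (Fact.out : p.Prime).one_lt.ne')
    have hgD : g ∈ Subgroup.centralizer (D : Set (SpecialLinearGroup (Fin (m + 1)) F)) := by
      refine Subgroup.mem_centralizer_iff.2 fun d hd => ?_
      obtain ⟨d', -, rfl⟩ := Subgroup.mem_map.1 hd
      exact (Subgroup.mem_centralizer_iff.1 d'.2 g rfl).symm
    have hrad : ∀ R : Subgroup (SpecialLinearGroup (Fin (m + 1)) F), IsPGroup p R →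
        R ≤ Subgroup.normalizer (D : Set (SpecialLinearGroup (Fin (m + 1)) F)) →
        Subgroup.normalizer (D : Set (SpecialLinearGroup (Fin (m + 1)) F)) ≤
          Subgroup.normalizer (R : Set (SpecialLinearGroup (Fin (m + 1)) F)) → R ≤ D := by
      intro R hR hRD _
      have hsup : IsPGroup p (R ⊔ D : Subgroup (SpecialLinearGroup (Fin (m + 1)) F)) :=
        hR.to_sup_of_normal_right' hDp hRD
      obtain ⟨k, hk⟩ := hsup.exists_card_eq
      have hka : k ≤ a := ((Fact.out : p.Prime).pow_dvd_iff_le_factorization Nat.card_pos.ne').1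
        (hk ▸ Subgroup.card_subgroup_dvd_card _)
      have := Subgroup.eq_of_le_of_card_ge (le_sup_right (a := R) (b := D))
        (by rw [hk, hDc]; exact Nat.pow_le_pow_right (Fact.out : p.Prime).pos hka)
      exact this ▸ le_sup_left
    obtain ⟨z, hz, d, hdD, hgzd⟩ := centralizer_le_center_sup p hDp hne hrad hgD
    obtain ⟨k, hk⟩ := hDp ⟨d, hdD⟩
    have hk' : d ^ p ^ k = 1 := congrArg Subtype.val hk
    have hpow : g ^ p ^ k ∈ Subgroup.center (SpecialLinearGroup (Fin (m + 1)) F) := by
      rw [hgzd, Commute.mul_pow (Subgroup.mem_center_iff.1 hz d).symm, hk', mul_one]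
      exact Subgroup.pow_mem _ hz _
    have hcop : Nat.Coprime (orderOf g) (p ^ k) :=
      Nat.Coprime.pow_right k (((Fact.out : p.Prime).coprime_iff_not_dvd).2 hreg).symm
    obtain ⟨r, hr⟩ := exists_pow_eq_self_of_coprime hcop.symm
    rw [← hr]
    exact Subgroup.pow_mem _ hpow _
  have hT : Nat.card T = Nat.card (Subgroup.center (SpecialLinearGroup (Fin (m + 1)) F)) :=
    le_antisymm hupper (hcover.trans_eq Nat.card_eq_fintype_card.symm)
  rw [← hT]
  -- split off the block of defect zero
  let e : {B : Set (IrrCharacter (SpecialLinearGroup (Fin (m + 1)) F)) // IsPBlock M B} ≃ Option T :=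
    { toFun := fun B => if h : blockDefect p B.1 = a then some ⟨B.1, B.2, h⟩ else none
      invFun := fun o => o.elim ⟨_, isPBlock_blockOf χ₀⟩ fun B => ⟨B.1, B.2.1⟩
      left_inv := fun B => by
        by_cases h : blockDefect p B.1 = a
        · simp [h]
        · simp only [h, dif_neg, not_false_iff, Option.elim]
          exact Subtype.ext (eq_of_defect_zero hm hM (isPBlock_blockOf χ₀) B.2 hB₀
            ((defect_zero_or_full hM B.2).resolve_right h))
      right_inv := fun o => by
        rcases o with _ | B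
        · simp [hB₀, Ne.symm ha0]
        · simp [B.2.2] }
  rw [Nat.card_congr e, Finite.card_option]

end SL

end CfsgLib.SLProjective
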