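import Cfsg.Agent.Lib.Blocks.Brauer.Corner
import Cfsg.Agent.Lib.Blocks.DefectOne.Count

/-!
# A simple module of a block of defect zero on which the norm of a p-subgroup does not vanish
-/

set_option autoImplicit false

namespace CfsgLib.SLProjective

open Cfsg MonoidAlgebra CfsgLib.Blocks CfsgLib.IBr
open scoped ComplexConjugate

variable {G : Type*} [Group G] [Fintype G] {p : ℕ} [Fact p.Prime] {M : Ideal AlgInt} [M.IsPrime]

theorem eq_singleton_of_defect_zero (hM : IsPModular p M) {B : Set (IrrCharacter G)} (hB : IsPBlock M B)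
    (hd : blockDefect p B = 0) :
    ∃ χ : IrrCharacter G, B = {χ} ∧
      ¬ p ∣ Nat.card G / charDegree (χ : G → ℂ) := by
  obtain ⟨χ, hχ⟩ := IsPBlock.nonempty hB
  have h1 := CfsgLib.DefectOne.card_eq_one_of_defect_zero hM hB hd
  have hB' : B = {χ} := by
    rw [Nat.card_coe_set_eq, Set.ncard_eq_one] at h1
    obtain ⟨χ', rfl⟩ := h1
    rw [Set.mem_singleton_iff.1 hχ]
  refine ⟨χ, hB', fun hdvd => ?_⟩
  obtain ⟨q, hq⟩ := CfsgLib.CharDegree.charDegree_dvd_card χ
  have hd0 := CfsgLib.CharDegree.charDegree_pos χ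
  rw [hq, Nat.mul_div_cancel_left _ hd0] at hdvd
  have hq0 : q ≠ 0 := fun h => (Nat.card_pos (α := G)).ne' (by rw [hq, h, mul_zero])
  have h3 := hM.1.factorization_pos_of_dvd hq0 hdvd
  have h4 : (Nat.card G).factorization p = (charDegree (χ : G → ℂ)).factorization p + q.factorization p := by
    rw [hq, Nat.factorization_mul hd0.ne' hq0, Finsupp.add_apply]
  unfold blockDefect at hd
  rw [hB', Set.image_singleton, csInf_singleton] at hd
  omega

/-- The value of an irreducible character as a local integer. -/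
noncomputable def valO (χ : IrrCharacter G) (g : G) : localRing M :=
  ⟨(χ : G → ℂ) g, mem_localRing_of_isIntegral (Char.IsChar.isIntegral (Char.IsIrr.isCharacter χ.2) _)⟩

/-- Values modulo `M` through the Brauer data. -/
theorem res_valO (hM : IsPModular p M) (D : Data G M) (χ : IrrCharacter G) (g : G) :
    resHom M (valO (M := M) χ g) = ∑ δ, (D.dec χ δ : Res M) * D.tau δ (single g 1) := by
  classical
  have := charP_residueField hM
  obtain ⟨x, s, hxs, hc, hx, hs⟩ := exists_pPart (p := p) hM.1 g
  have h1 : resHom M (valO (M := M) χ g) = resHom M (valO (M := M) χ s) := by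
    rw [← hxs]
    exact residue_eq_iff.2 (apply_mul_congr hM χ hc hx)
  have h2 : valO (M := M) χ s = ∑ δ, (D.dec χ δ : localRing M) * D.phiO δ s := by
    apply Subtype.ext
    have h := congrFun (D.pRegularPart_eq_sum hM χ) s
    simp only [pRegularPart, IsPRegular, hs, not_false_eq_true, if_true, Finset.sum_apply, Pi.smul_apply,
      smul_eq_mul] at h
    show (χ : G → ℂ) s = _
    rw [h, AddSubmonoidClass.coe_finsetSum]
    refine Finset.sum_congr rfl fun δ _ => ?_
    rw [Subring.coe_mul, D.phiO_coe δ hs]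
    norm_cast
  rw [h1, h2, map_sum]
  refine Finset.sum_congr rfl fun δ _ => ?_
  rw [map_mul, map_natCast, D.phiO_res hM δ hs, ← hxs, D.tau_single_mul (p := p) δ hx hc]

/-- In a block of defect zero an element killed by the simple modules of the block is zero. -/
theorem eq_zero_of_psi (hM : IsPModular p M) (D : Data G M) {B : Set (IrrCharacter G)} (hB : IsPBlock M B)
    (hd : blockDefect p B = 0) {y : MonoidAlgebra (Res M) G} (hy : blockIdemBar M B * y = y)
    (hψ : ∀ δ, D.block hM δ = B → D.ψ y δ = 0) : y = 0 := by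
  classical
  have hψ' : ∀ δ, D.ψ y δ = 0 := fun δ => by
    by_cases hδ : D.block hM δ = B
    · exact hψ δ hδ
    · rw [← hy, map_mul, Pi.mul_apply, D.psi_blockIdemBar_of_ne hM hB hδ, zero_mul]
  obtain ⟨χ, hBχ, hdvd⟩ := eq_singleton_of_defect_zero hM hB hd
  set d := charDegree (χ : G → ℂ) with hdd
  have hd0 : 0 < d := CfsgLib.CharDegree.charDegree_pos χ
  let c0 : localRing M := ⟨((Nat.card G / d : ℕ) : ℂ)⁻¹, inv_natCast_mem hM hdvd⟩
  have hcoef : ∀ w : G, (blockIdemBar M B).coeff w⁻¹ = resHom M c0 * resHom M (valO (M := M) χ w) := by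
    intro w
    rw [blockIdemBar, coeff_red, blockIdemO, coeff_ofFun, dif_pos (blockCoeff_mem hB _), ← map_mul]
    congr 1
    apply Subtype.ext
    show blockCoeff B w⁻¹ = ((Nat.card G / d : ℕ) : ℂ)⁻¹ * (χ : G → ℂ) w
    obtain ⟨n, ρ, hρ, hρχ⟩ := χ.2
    obtain ⟨q, hq⟩ := CfsgLib.CharDegree.charDegree_dvd_card χ
    have hconj : conj ((χ : G → ℂ) w⁻¹) = (χ : G → ℂ) w := by
      rw [← hρχ, CfsgLib.Char.character_inv, Complex.conj_conj]
    have hone : (χ : G → ℂ) 1 = (d : ℂ) := by rw [hdd, apply_one_eq_charDegree]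
    unfold blockCoeff
    rw [hBχ, finsum_mem_singleton, hconj, hone, ← hdd] at *
    rw [hq, Nat.mul_div_cancel_left _ hd0, Nat.cast_mul]
    have : (d : ℂ) ≠ 0 := Nat.cast_ne_zero.2 hd0.ne'
    rw [mul_inv_rev, ← mul_assoc, mul_assoc _ _ (d : ℂ), inv_mul_cancel₀ this, mul_one]
  -- the identity coefficient
  have key : ∀ z : MonoidAlgebra (Res M) G, blockIdemBar M B * z = z → (∀ δ, D.ψ z δ = 0) → z.coeff 1 = 0 := by
    intro z hz hzψ
    conv_lhs => rw [← hz, coeff_mul_eq_sum]
    have h1 : ∀ w : G, ∀ δ, D.tau δ (single w 1) * z.coeff w = z.coeff w • D.tau δ (single w 1) := fun w δ => by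
      rw [smul_eq_mul, mul_comm]
    calc ∑ u : G, (blockIdemBar M B).coeff u * z.coeff (u⁻¹ * 1)
        = ∑ w : G, (blockIdemBar M B).coeff w⁻¹ * z.coeff w := by
          refine Fintype.sum_equiv (Equiv.inv G) _ _ fun u => ?_
          simp
      _ = resHom M c0 * ∑ δ, (D.dec χ δ : Res M) * D.tau δ z := by
          simp only [hcoef, res_valO hM D, Finset.mul_sum, Finset.sum_mul]
          rw [Finset.sum_comm]
          refine Finset.sum_congr rfl fun δ _ => ?_
          have hz' : z = ∑ w : G, z.coeff w • single w (1 : Res M) := by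
            ext v
            simp [Finsupp.single_apply, Finset.sum_ite_eq']
          conv_rhs => rw [hz', map_sum, Finset.mul_sum, Finset.mul_sum]
          refine Finset.sum_congr rfl fun w _ => ?_
          rw [map_smul, smul_eq_mul]
          ring
      _ = 0 := by
          simp [Data.tau_apply, hzψ]
  ext g
  have h := key (y * single g⁻¹ 1) (by rw [← mul_assoc, hy]) fun δ => by
    rw [map_mul, Pi.mul_apply, hψ' δ, zero_mul]
  simpa using h

/-- A block of defect zero has a simple module on which the norm of a p-subgroup is nonzero. -/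
theorem exists_delta (hM : IsPModular p M) (D : Data G M) {B : Set (IrrCharacter G)} (hB : IsPBlock M B)
    (hd : blockDefect p B = 0) (U : Subgroup G) [Fintype U] (hU : IsPGroup p U) :
    ∃ δ, D.block hM δ = B ∧ D.ψ (∑ u : U, single (u : G) 1) δ ≠ 0 := by
  classical
  have := charP_residueField hM
  set e := blockIdemBar M B with he
  have hee : e * e = e := blockIdemBar_mul_self hB
  have hne : e ≠ 0 := by
    intro h0
    obtain ⟨χ, hχ⟩ := IsPBlock.nonempty hB
    have h1 := omegaBar_blockIdemBar hB χ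
    rw [← he, h0, omegaBar_zero, if_pos hχ] at h1
    exact zero_ne_one h1
  let W : Submodule (Res M) (MonoidAlgebra (Res M) G) := LinearMap.range (LinearMap.mulLeft (Res M) e)
  have hcentral : ∀ x : MonoidAlgebra (Res M) G, x * e = e * x := fun x =>
    (((isCentralElt_blockIdemBar hB).commute x).eq).symm
  let ρ : Representation (Res M) U W :=
    { toFun := fun u =>
        (LinearMap.mulLeft (Res M) (single (u : G) (1 : Res M))).restrict (p := W) (q := W) fun w hw => by
          obtain ⟨v, rfl⟩ := hw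
          exact ⟨single (u : G) 1 * v, by simp only [LinearMap.mulLeft_apply, ← mul_assoc, hcentral]⟩
      map_one' := LinearMap.ext fun w => Subtype.ext (by
        show single ((1 : U) : G) (1 : Res M) * w.1 = w.1
        rw [Subgroup.coe_one, ← MonoidAlgebra.one_def, one_mul])
      map_mul' := fun u u' => LinearMap.ext fun w => Subtype.ext (by
        show single (((u * u' : U) : U) : G) (1 : Res M) * w.1 =
          single (u : G) (1 : Res M) * (single (u' : G) (1 : Res M) * w.1)
        rw [← mul_assoc, single_mul_single, Subgroup.coe_mul, one_mul]) }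
  have heW : e ∈ W := ⟨1, mul_one e⟩
  obtain ⟨⟨y, hyW⟩, hy0, hyfix⟩ := exists_fixed_ne_zero (F := Res M) hU ρ (v := (⟨e, heW⟩ : W))
    fun h => hne (congrArg Subtype.val h)
  have hey : e * y = y := by
    obtain ⟨v, rfl⟩ := hyW
    show e * (e * v) = e * v
    rw [← mul_assoc, hee]
  have hconst : ∀ (u : U) (g : G), y.coeff ((u : G) * g) = y.coeff g := by
    intro u g
    have hf : single (u : G) (1 : Res M) * y = y := congrArg Subtype.val (hyfix u)
    conv_lhs => rw [← hf]
    rw [MonoidAlgebra.coeff_single_mul_apply, one_mul, inv_mul_cancel_left]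
  let r : G → G := fun g => (Quotient.out (QuotientGroup.mk g⁻¹ : G ⧸ U))⁻¹
  have hr : ∀ g, g * (r g)⁻¹ ∈ U := fun g => by
    have h := QuotientGroup.eq.1 (QuotientGroup.out_eq' (QuotientGroup.mk g⁻¹ : G ⧸ U)).symm
    simpa [r] using h
  have hru : ∀ (u : U) g, r ((u : G) * g) = r g := fun u g => by
    have : (QuotientGroup.mk ((u : G) * g)⁻¹ : G ⧸ U) = QuotientGroup.mk g⁻¹ := by
      rw [QuotientGroup.eq]
      simp
    simp only [r, this]
  let z : MonoidAlgebra (Res M) G := ofFun fun g => if g = r g then y.coeff g else 0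
  set N : MonoidAlgebra (Res M) G := ∑ u : U, single (u : G) 1 with hN
  have hyz : y = N * z := by
    ext g
    rw [hN, Finset.sum_mul, MonoidAlgebra.coeff_sum, Finsupp.finset_sum_apply]
    simp only [MonoidAlgebra.coeff_single_mul_apply, one_mul, z, coeff_ofFun]
    let u0 : U := ⟨g * (r g)⁻¹, hr g⟩
    rw [Finset.sum_eq_single u0]
    · have h1 : (u0 : G)⁻¹ * g = r g := by
        show (g * (r g)⁻¹)⁻¹ * g = r g
        group
      have h2 : r (r g) = r g := by
        conv_rhs => rw [← mul_inv_cancel_left (u0 : G) g, h1, hru]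
      rw [h1, if_pos h2.symm]
      conv_lhs => rw [← mul_inv_cancel_left (u0 : G) g, h1, hconst]
    · intro u _ hu
      rw [if_neg]
      intro h
      refine hu (Subtype.ext ?_)
      have h' := hru u⁻¹ g
      rw [Subgroup.coe_inv] at h'
      rw [h'] at h
      show (u : G) = g * (r g)⁻¹
      rw [← h]; group
    · exact fun h => absurd (Finset.mem_univ _) h
  by_contra hcon
  push Not at hcon
  refine hy0 (Subtype.ext (eq_zero_of_psi hM D hB hd hey fun δ hδ => ?_))
  show D.ψ y δ = 0
  exact (congrArg (fun a => D.ψ a δ) hyz).trans (by rw [map_mul, Pi.mul_apply, hcon δ hδ, zero_mul])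

end CfsgLib.SLProjective
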