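import Cfsg.Agent.Lib.Char.Exceptional.PSLChambers
import Cfsg.Agent.Lib.Classical.SLGroup

/-!
# Elements of the special linear group used for its projective simple modules

Upper and lower unitriangular subgroups, monomial elements, the elements of the rank one subgroups on adjacent
positions, and the Bruhat decomposition inside the special linear group.
-/

set_option autoImplicit false

namespace CfsgLib.SLProjective

open Matrix

variable {n : ℕ} {F : Type*} [Field F]

/-- The special linear group of degree `n`. -/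
local notation "SLn" => SpecialLinearGroup (Fin n) F

/-- Upper unitriangular. -/
def IsUpper (g : SpecialLinearGroup (Fin n) F) : Prop :=
  ∀ a b : Fin n, b ≤ a → (g : Matrix (Fin n) (Fin n) F) a b = if a = b then 1 else 0

theorem mem_uniSL_iff {g : SLn} : g ∈ CfsgLib.PSLSteinberg.uniSL n F ↔ IsUpper g := by
  constructor
  · rintro ⟨h1, h2⟩ a b hba
    rcases hba.eq_or_lt with rfl | h
    · rw [if_pos rfl, h2]
    · rw [if_neg h.ne', h1 h]
  · exact fun h => ⟨fun a b hab => (h a b (le_of_lt hab)).trans (if_neg (ne_of_gt (show b < a from hab))),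
      fun a => (h a a le_rfl).trans (if_pos rfl)⟩

/-- The upper unitriangular subgroup. -/
abbrev Up (n : ℕ) (F : Type*) [Field F] : Subgroup (SpecialLinearGroup (Fin n) F) := CfsgLib.PSLSteinberg.uniSL n F

/-- `m` is monomial with permutation `σ` and entries `ε`. -/
def IsMono (m : SpecialLinearGroup (Fin n) F) (σ : Equiv.Perm (Fin n)) (ε : Fin n → F) : Prop :=
  ∀ a b : Fin n, (m : Matrix (Fin n) (Fin n) F) a b = if a = σ b then ε b else 0

theorem IsMono.ne_zero {m : SLn} {σ : Equiv.Perm (Fin n)} {ε : Fin n → F} (hm : IsMono m σ ε) (b : Fin n) :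
    ε b ≠ 0 := by
  intro h
  have h0 := Matrix.det_eq_zero_of_column_eq_zero (A := (m : Matrix (Fin n) (Fin n) F)) b fun a => by
    rw [hm a b]; split_ifs <;> simp [h]
  rw [m.det_coe] at h0
  exact one_ne_zero h0

theorem val_mul_apply (g h : SLn) (a b : Fin n) :
    (g * h : SLn).1 a b = ∑ c, g.1 a c * h.1 c b := rfl

theorem val_one_apply (a b : Fin n) : (1 : SLn).1 a b = if a = b then 1 else 0 := Matrix.one_apply

theorem val_transvection {a b : Fin n} (h : a ≠ b) (c : F) :
    (SpecialLinearGroup.transvection h c : SLn).1 = 1 + Matrix.single a b c := SpecialLinearGroup.transvection_coe h c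

theorem IsMono.mul {m m' : SLn} {σ σ' : Equiv.Perm (Fin n)} {ε ε' : Fin n → F} (h : IsMono m σ ε)
    (h' : IsMono m' σ' ε') : IsMono (m * m') (σ * σ') fun b => ε (σ' b) * ε' b := by
  intro a b
  rw [val_mul_apply, Finset.sum_eq_single (σ' b)]
  · rw [h a, h' (σ' b) b, if_pos rfl, Equiv.Perm.mul_apply]
    split_ifs <;> simp
  · intro c _ hc
    rw [h' c b, if_neg hc, mul_zero]
  · exact fun h => absurd (Finset.mem_univ _) h

theorem isMono_one : IsMono (1 : SLn) 1 fun _ => 1 := fun a b => by
  rw [val_one_apply, Equiv.Perm.one_apply]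

theorem IsMono.conj_entry {m : SLn} {σ : Equiv.Perm (Fin n)} {ε : Fin n → F} (hm : IsMono m σ ε) (g : SLn)
    (a b : Fin n) :
    ((m * g * m⁻¹ : SLn) : Matrix (Fin n) (Fin n) F) (σ a) (σ b) * ε b =
      ε a * (g : Matrix (Fin n) (Fin n) F) a b := by
  have h1 : ((m * g * m⁻¹ * m : SLn) : Matrix (Fin n) (Fin n) F) (σ a) b =
      ((m * g * m⁻¹ : SLn) : Matrix (Fin n) (Fin n) F) (σ a) (σ b) * ε b := by
    rw [val_mul_apply, Finset.sum_eq_single (σ b)]
    · rw [hm (σ b) b, if_pos rfl]
    · intro c _ hc
      rw [hm c b, if_neg hc, mul_zero]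
    · exact fun h => absurd (Finset.mem_univ _) h
  rw [← h1, inv_mul_cancel_right, val_mul_apply, Finset.sum_eq_single a]
  · rw [hm (σ a) a, if_pos rfl]
  · intro c _ hc
    rw [hm (σ a) c, if_neg (σ.injective.ne (Ne.symm hc)), zero_mul]
  · exact fun h => absurd (Finset.mem_univ _) h

theorem IsMono.mul_transvection {m : SLn} {σ : Equiv.Perm (Fin n)} {ε : Fin n → F} (hm : IsMono m σ ε) {a b : Fin n}
    (hab : a ≠ b) (c : F) :
    m * SpecialLinearGroup.transvection hab c =
      SpecialLinearGroup.transvection (σ.injective.ne hab) (ε a * c / ε b) * m := by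
  refine Subtype.ext (Matrix.ext fun x y => ?_)
  show (m.1 * (SpecialLinearGroup.transvection hab c : SLn).1) x y = ((SpecialLinearGroup.transvection _ _ : SLn).1 * m.1) x y
  simp only [val_transvection, Matrix.mul_add, Matrix.add_mul, Matrix.one_mul, Matrix.mul_one, Matrix.add_apply]
  congr 1
  rw [Matrix.mul_apply, Matrix.mul_apply]
  rw [Finset.sum_eq_single a, Finset.sum_eq_single (σ b)]
  · rw [hm x a, hm (σ b) y]
    by_cases hx : x = σ a
    · subst hx
      by_cases hy : b = y
      · subst hy
        simp [hm.ne_zero b, div_mul_cancel₀]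
      · simp [hy]
    · simp [hx, Ne.symm hx]
  · intro z _ hz; simp [hm z y, Ne.symm hz]
  · exact fun h => absurd (Finset.mem_univ _) h
  · intro z _ hz; simp [Ne.symm hz]
  · exact fun h => absurd (Finset.mem_univ _) h

/-- The Weyl element on the positions `i, j`. -/
noncomputable def weyl {i j : Fin n} (h : i ≠ j) : SpecialLinearGroup (Fin n) F :=
  SpecialLinearGroup.transvection h 1 * SpecialLinearGroup.transvection h.symm (-1) *
    SpecialLinearGroup.transvection h 1

theorem weyl_smul {i j : Fin n} (h : i ≠ j) (x : Fin n → F) (k : Fin n) :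
    ((weyl h : SLn) • x) k = if k = i then x j else if k = j then -x i else x k := by
  simp only [weyl, mul_smul, CfsgLib.Classical.transvection_smul_apply]
  by_cases hki : k = i
  · subst hki
    simp only [if_true, if_neg h, if_neg h.symm]
    ring
  · by_cases hkj : k = j
    · subst hkj
      simp only [if_true, if_neg h, if_neg h.symm]
      ring
    · simp [hki, hkj]

theorem isMono_weyl {i j : Fin n} (h : i ≠ j) :
    IsMono (weyl h : SLn) (Equiv.swap i j) fun b => if b = i then -1 else 1 := by
  intro a b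
  have hk := weyl_smul (F := F) h (Pi.single b 1) a
  have e : ((weyl h : SLn) • (Pi.single b 1 : Fin n → F)) a = (weyl h : SLn).1 a b :=
    congrFun (Matrix.mulVec_single_one (weyl h : SLn).1 b) a
  refine Eq.trans (e.symm.trans hk) ?_
  rw [Equiv.swap_apply_def]
  simp only [Pi.single_apply]
  clear hk e
  grind

theorem weyl_mul_transvection {i j : Fin n} (h : i ≠ j) (a : F) :
    (weyl h : SLn) * SpecialLinearGroup.transvection h a =
      SpecialLinearGroup.transvection h.symm (-a) * weyl h := by
  refine CfsgLib.Classical.sl_ext_smul fun x => funext fun k => ?_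
  simp only [mul_smul, weyl_smul, CfsgLib.Classical.transvection_smul_apply]
  by_cases hki : k = i
  · subst hki; simp [h, h.symm]
  · by_cases hkj : k = j
    · subst hkj; simp [h, h.symm]; ring
    · simp [hki, hkj]

theorem transvection_mul_weyl {i j : Fin n} (h : i ≠ j) (a : F) :
    SpecialLinearGroup.transvection h a * (weyl h : SLn) =
      weyl h * SpecialLinearGroup.transvection h.symm (-a) := by
  refine CfsgLib.Classical.sl_ext_smul fun x => funext fun k => ?_
  simp only [mul_smul, weyl_smul, CfsgLib.Classical.transvection_smul_apply]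
  by_cases hki : k = i
  · subst hki; simp [h, h.symm]
  · by_cases hkj : k = j
    · subst hkj; simp [h, h.symm]
    · simp [hki, hkj]

theorem weyl_sq {i j : Fin n} (h : i ≠ j) :
    (weyl h : SLn) * weyl h = SpecialLinearGroup.diag2n h (-1) (by norm_num) := by
  refine CfsgLib.Classical.sl_ext_smul fun x => funext fun k => ?_
  simp only [mul_smul, weyl_smul, CfsgLib.Classical.diag2n_smul_apply]
  by_cases hki : k = i
  · subst hki; simp [h.symm]
  · by_cases hkj : k = j
    · subst hkj; simp [h.symm]
    · simp [hki, hkj]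

theorem weyl_mul_upper {i j : Fin n} (h : i ≠ j) {a : F} (ha : a ≠ 0) :
    (weyl h : SLn) * SpecialLinearGroup.transvection h a =
      SpecialLinearGroup.transvection h (-a⁻¹) *
        SpecialLinearGroup.diag2n h (-a⁻¹) (neg_ne_zero.2 (inv_ne_zero ha)) *
          SpecialLinearGroup.transvection h.symm a⁻¹ := by
  refine CfsgLib.Classical.sl_ext_smul fun x => funext fun k => ?_
  simp only [mul_smul, weyl_smul, CfsgLib.Classical.transvection_smul_apply, CfsgLib.Classical.diag2n_smul_apply]
  by_cases hki : k = i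
  · subst hki; simp [h, h.symm]; field_simp; ring
  · by_cases hkj : k = j
    · subst hkj; simp [h, h.symm]; field_simp; ring
    · simp [hki, hkj]

theorem weyl_mul_lower {i j : Fin n} (h : i ≠ j) {z : F} (hz : z ≠ 0) :
    (weyl h : SLn) * SpecialLinearGroup.transvection h.symm z =
      SpecialLinearGroup.transvection h.symm (-z⁻¹) * SpecialLinearGroup.diag2n h z hz *
          SpecialLinearGroup.transvection h z⁻¹ := by
  refine CfsgLib.Classical.sl_ext_smul fun x => funext fun k => ?_
  simp only [mul_smul, weyl_smul, CfsgLib.Classical.transvection_smul_apply, CfsgLib.Classical.diag2n_smul_apply]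
  by_cases hki : k = i
  · subst hki; simp [h, h.symm]; field_simp; ring
  · by_cases hkj : k = j
    · subst hkj; simp [h, h.symm]; field_simp; ring
    · simp [hki, hkj]

theorem diag2n_mul {i j : Fin n} (h : i ≠ j) {a b : F} (ha : a ≠ 0) (hb : b ≠ 0) :
    (SpecialLinearGroup.diag2n h a ha : SLn) * SpecialLinearGroup.diag2n h b hb =
      SpecialLinearGroup.diag2n h (a * b) (mul_ne_zero ha hb) := by
  refine CfsgLib.Classical.sl_ext_smul fun x => funext fun k => ?_
  simp only [mul_smul, CfsgLib.Classical.diag2n_smul_apply]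
  split_ifs <;> [ring; (field_simp); ring]

theorem diag2n_one {i j : Fin n} (h : i ≠ j) :
    (SpecialLinearGroup.diag2n h (1 : F) one_ne_zero : SLn) = 1 := by
  refine CfsgLib.Classical.sl_ext_smul fun x => funext fun k => ?_
  simp [CfsgLib.Classical.diag2n_smul_apply]

theorem isMono_diag2n {i j : Fin n} (h : i ≠ j) {a : F} (ha : a ≠ 0) :
    IsMono (SpecialLinearGroup.diag2n h a ha : SLn) 1 fun k => if k = i then a else if k = j then a⁻¹ else 1 := by
  intro x y
  rw [SpecialLinearGroup.diag2n_coe, Matrix.diagonal_apply, Equiv.Perm.one_apply]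
  split_ifs <;> first | rfl | simp_all

theorem transvection_mem_up {a b : Fin n} (hab : a < b) (c : F) :
    SpecialLinearGroup.transvection hab.ne c ∈ Up n F := by
  rw [mem_uniSL_iff]
  intro x y hyx
  rw [SpecialLinearGroup.transvection_coe, Matrix.add_apply, Matrix.one_apply, Matrix.single_apply,
    if_neg (show ¬(a = x ∧ b = y) by rintro ⟨rfl, rfl⟩; exact absurd hyx (not_le.2 hab)), add_zero]

/-- The monomial elements reached from the adjacent Weyl elements. -/
theorem exists_mono {n : ℕ} {H : Subgroup (SpecialLinearGroup (Fin (n + 1)) F)}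
    (hH : ∀ i : Fin n, (weyl (Fin.castSucc_lt_succ (i := i)).ne : SpecialLinearGroup (Fin (n + 1)) F) ∈ H)
    (σ : Equiv.Perm (Fin (n + 1))) : ∃ m ∈ H, ∃ ε, IsMono m σ ε := by
  have hσ : σ ∈ Submonoid.closure (Set.range fun i : Fin n => Equiv.swap i.castSucc i.succ) := by
    rw [Equiv.Perm.mclosure_swap_castSucc_succ]; trivial
  induction hσ using Submonoid.closure_induction with
  | mem x hx =>
    obtain ⟨i, rfl⟩ := hx
    exact ⟨_, hH i, _, isMono_weyl _⟩
  | one => exact ⟨1, H.one_mem, _, isMono_one⟩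
  | mul x y _ _ hx hy =>
    obtain ⟨m, hm, ε, he⟩ := hx
    obtain ⟨m', hm', ε', he'⟩ := hy
    exact ⟨m * m', H.mul_mem hm hm', _, he.mul he'⟩

/-- Bruhat decomposition with a prescribed family of monomial representatives. -/
theorem exists_bruhat_SL (g : SLn) (mm : Equiv.Perm (Fin n) → SLn) (ee : Equiv.Perm (Fin n) → Fin n → F)
    (hmm : ∀ σ, IsMono (mm σ) σ (ee σ)) :
    ∃ u ∈ Up n F, ∃ σ : Equiv.Perm (Fin n), ∃ b : SLn,
      (b : Matrix (Fin n) (Fin n) F).BlockTriangular id ∧ g = u * mm σ * b := by
  classical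
  obtain ⟨b₁, hb₁, σ, b₂, hb₂, hg⟩ := CfsgLib.GLParabolic.exists_bruhat (SpecialLinearGroup.toGL g)
  let d : Fin n → F := fun i => (b₁ : Matrix (Fin n) (Fin n) F) i i
  have hdet : (b₁ : Matrix (Fin n) (Fin n) F).det = ∏ i, d i := Matrix.det_of_isUpperTriangular hb₁
  have hd : ∀ i, d i ≠ 0 := fun i => (Finset.prod_ne_zero_iff (f := d)).1
    (hdet ▸ ((Matrix.isUnit_iff_isUnit_det _).1 b₁.isUnit).ne_zero) i (Finset.mem_univ i)
  let M := (b₁ : Matrix (Fin n) (Fin n) F) * Matrix.diagonal (fun i => (d i)⁻¹)
  have hMu : M.BlockTriangular id :=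
    (show (b₁ : Matrix (Fin n) (Fin n) F).BlockTriangular id from hb₁).mul (Matrix.blockTriangular_diagonal _)
  have hMd : ∀ i, M i i = 1 := fun i => by simp [M, d, Matrix.mul_diagonal]; exact mul_inv_cancel₀ (hd i)
  let u : SLn := ⟨M, by rw [Matrix.det_of_isUpperTriangular hMu]; exact Finset.prod_eq_one fun i _ => hMd i⟩
  let v : Fin n → F := fun c => d (σ c) / ee σ c
  let Bm := Matrix.diagonal v * (b₂ : Matrix (Fin n) (Fin n) F)
  have hBu : Bm.BlockTriangular id :=
    (Matrix.blockTriangular_diagonal v).mul (show (b₂ : Matrix (Fin n) (Fin n) F).BlockTriangular id from hb₂)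
  have hmid : Matrix.diagonal d * (CfsgLib.GLParabolic.wGL n F σ : Matrix (Fin n) (Fin n) F) =
      (mm σ : Matrix (Fin n) (Fin n) F) * Matrix.diagonal v := by
    ext a c
    rw [Matrix.diagonal_mul, Matrix.mul_diagonal, CfsgLib.GLParabolic.wGL_apply, hmm σ a c]
    split_ifs with h
    · subst h
      rw [mul_one]
      exact (mul_div_cancel₀ _ ((hmm σ).ne_zero c)).symm
    · simp
  have hgm : (g : Matrix (Fin n) (Fin n) F) = M * (mm σ : Matrix (Fin n) (Fin n) F) * Bm := by
    have h1 : (g : Matrix (Fin n) (Fin n) F) = (b₁ : Matrix (Fin n) (Fin n) F) *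
        (CfsgLib.GLParabolic.wGL n F σ : Matrix (Fin n) (Fin n) F) * (b₂ : Matrix (Fin n) (Fin n) F) :=
      congrArg (fun z : Matrix.GeneralLinearGroup (Fin n) F => (z : Matrix (Fin n) (Fin n) F)) hg
    have h2 : (b₁ : Matrix (Fin n) (Fin n) F) = M * Matrix.diagonal d := by
      rw [Matrix.mul_assoc, Matrix.diagonal_mul_diagonal, show (fun i => (d i)⁻¹ * d i) = fun _ => (1 : F) from
        funext fun i => inv_mul_cancel₀ (hd i), Matrix.diagonal_one, Matrix.mul_one]
    rw [h1, h2, Matrix.mul_assoc M, hmid]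
    simp only [Bm, Matrix.mul_assoc]
  have hBdet : Bm.det = 1 := by
    have := congrArg Matrix.det hgm
    rw [g.det_coe, Matrix.det_mul, Matrix.det_mul, show M.det = 1 from u.det_coe, (mm σ).det_coe, one_mul,
      one_mul] at this
    exact this.symm
  exact ⟨u, ⟨hMu, hMd⟩, σ, ⟨Bm, hBdet⟩, hBu, Subtype.ext hgm⟩

/-- Sums over a subgroup split along a coordinate with a one-parameter section. -/
theorem sum_split {G : Type*} [Group G] [Fintype F] [DecidableEq F] (K : Subgroup G) [Fintype K] (X : F → G)
    (hX : ∀ a, X a ∈ K) (hadd : ∀ a b, X (a + b) = X a * X b) (π : G → F)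
    (hπ : ∀ g ∈ K, ∀ a, π (g * X a) = π g + a) {V : Type*} [AddCommMonoid V] (f : G → V) :
    ∑ g : K, f g = ∑ g : {g : K // π g = 0}, ∑ a : F, f (g.1 * X a) := by
  rw [← Fintype.sum_prod_type' (f := fun (g : {g : K // π g = 0}) a => f (g.1 * X a))]
  have h0 : X 0 = 1 := by
    have h := hadd 0 0
    rw [add_zero] at h
    simpa using h.symm
  refine (Fintype.sum_bijective (fun x : {g : K // π g = 0} × F => (⟨x.1.1 * X x.2, K.mul_mem x.1.1.2 (hX x.2)⟩ : K))
    ⟨?_, ?_⟩ _ _ fun x => rfl).symm
  · rintro ⟨g, a⟩ ⟨g', a'⟩ he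
    have he' : (g.1 : G) * X a = g'.1 * X a' := congrArg Subtype.val he
    have ha : a = a' := by
      have := congrArg π he'
      rw [hπ _ g.1.2, hπ _ g'.1.2, g.2, g'.2, zero_add, zero_add] at this
      exact this
    subst ha
    exact Prod.ext (Subtype.ext (Subtype.ext (mul_right_cancel he'))) rfl
  · intro g
    refine ⟨(⟨⟨g * X (-π g), K.mul_mem g.2 (hX _)⟩, ?_⟩, π g), Subtype.ext ?_⟩
    · show π ((g : G) * X (-π g)) = 0
      rw [hπ _ g.2, add_neg_cancel]
    · show (g : G) * X (-π g) * X (π g) = g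
      rw [mul_assoc, ← hadd, neg_add_cancel, h0, mul_one]

theorem transvection_add {a b : Fin n} (h : a ≠ b) (c d : F) :
    (SpecialLinearGroup.transvection h (c + d) : SLn) =
      SpecialLinearGroup.transvection h c * SpecialLinearGroup.transvection h d := by
  refine CfsgLib.Classical.sl_ext_smul fun x => funext fun k => ?_
  simp only [mul_smul, CfsgLib.Classical.transvection_smul_apply]
  by_cases hk : k = a
  · subst hk; simp [h.symm]; ring
  · simp [hk]

theorem mul_transvection_entry {a b : Fin n} (h : a ≠ b) (c : F) (g : SLn)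
    (hg : (g : Matrix (Fin n) (Fin n) F) a a = 1) :
    ((g * SpecialLinearGroup.transvection h c : SLn) : Matrix (Fin n) (Fin n) F) a b =
      (g : Matrix (Fin n) (Fin n) F) a b + c := by
  simp [SpecialLinearGroup.coe_mul, SpecialLinearGroup.transvection_coe, Matrix.mul_add, hg]

end CfsgLib.SLProjective
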