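import Cfsg.Agent.Lib.Blocks.BrauerMap
import Mathlib.LinearAlgebra.Matrix.SpecialLinearGroup
import Mathlib.LinearAlgebra.Dual.Lemmas
import Mathlib.GroupTheory.Nilpotent
import Mathlib.RingTheory.Nilpotent.Basic

/-!
# Centralisers of radical p-subgroups of the special linear group in its own characteristic
-/

set_option autoImplicit false

namespace CfsgLib.SLProjective

open Matrix

variable {n : ℕ} {F : Type*} [Field F] [Fintype F] (p : ℕ) [hpP : Fact p.Prime] [hFp : CharP F p]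

include p hpP hFp in
omit [Fintype F] in
theorem det_one_add_eq_one {A : Matrix (Fin n) (Fin n) F} (hA : A * A = 0) : (1 + A).det = 1 := by
  have hpow : ∀ r : ℕ, (1 + A) ^ r = 1 + r • A := by
    intro r
    induction r with
    | zero => simp
    | succ r ih =>
      rw [pow_succ, ih, add_mul, one_mul, mul_add, mul_one, smul_mul_assoc, hA, smul_zero, add_zero, succ_nsmul]
      abel
  have hp : p • A = 0 := by
    ext a b
    simp [CharP.cast_eq_zero F p]
  have h1 : (1 + A).det ^ p = 1 := by rw [← Matrix.det_pow, hpow, hp, add_zero, Matrix.det_one]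
  have h2 : ((1 + A).det - 1) ^ p = 0 := by rw [sub_pow_char, h1, one_pow, sub_self]
  exact sub_eq_zero.1 ((pow_eq_zero_iff (Fact.out : p.Prime).ne_zero).1 h2)

/-- **Centralisers of radical subgroups.** If every `p`-subgroup normalised by `N(D)` inside `N(D)` lies in the
nontrivial `p`-subgroup `D`, then `C(D)` consists of products of central elements and elements of `D`. -/
theorem centralizer_le_center_sup {D : Subgroup (SpecialLinearGroup (Fin n) F)} (hD : IsPGroup p D) (hne : D ≠ ⊥)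
    (hrad : ∀ Q : Subgroup (SpecialLinearGroup (Fin n) F), IsPGroup p Q → Q ≤ Subgroup.normalizer (D : Set (SpecialLinearGroup (Fin n) F)) →
      Subgroup.normalizer (D : Set (SpecialLinearGroup (Fin n) F)) ≤ Subgroup.normalizer (Q : Set (SpecialLinearGroup (Fin n) F)) → Q ≤ D)
    {c : SpecialLinearGroup (Fin n) F} (hc : c ∈ Subgroup.centralizer (D : Set (SpecialLinearGroup (Fin n) F))) :
    ∃ z ∈ Subgroup.center (SpecialLinearGroup (Fin n) F), ∃ d ∈ D, c = z * d := by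
  classical
  let V := Fin n → F
  let V₁ : Submodule F V :=
    { carrier := {x | ∀ d ∈ D, d.1 *ᵥ x = x}
      add_mem' := fun ha hb d hd => by rw [Matrix.mulVec_add, ha d hd, hb d hd]
      zero_mem' := fun d _ => Matrix.mulVec_zero _
      smul_mem' := fun r a ha d hd => by rw [Matrix.mulVec_smul, ha d hd] }
  obtain ⟨d₀, hd₀, hd₀1⟩ := (Subgroup.ne_bot_iff_exists_ne_one.1 hne : ∃ d : D, d ≠ 1) |>.elim
    fun d hd => (⟨d.1, d.2, fun h => hd (Subtype.ext h)⟩ : ∃ d, d ∈ D ∧ d ≠ 1)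
  obtain ⟨x₁, hx₁⟩ : ∃ x, x ∉ V₁ := by
    by_contra h
    push Not at h
    exact hd₀1 (Subtype.ext (Matrix.ext_iff_mulVec.2 fun v => (h v d₀ hd₀).trans (Matrix.one_mulVec v).symm))
  obtain ⟨v₀, hv₀, hv₀fix⟩ : ∃ w : V, w ≠ 0 ∧ w ∈ V₁ := by
    let ρ : Representation F D V :=
      { toFun := fun d => Matrix.mulVecLin d.1.1
        map_one' := by
          refine LinearMap.ext fun x => ?_
          show (1 : SpecialLinearGroup (Fin n) F).1 *ᵥ x = x
          exact Matrix.one_mulVec x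
        map_mul' := fun a b => by
          refine LinearMap.ext fun x => ?_
          show (a.1.1 * b.1.1) *ᵥ x = a.1.1 *ᵥ (b.1.1 *ᵥ x)
          rw [Matrix.mulVec_mulVec] }
    have hx0 : x₁ ≠ 0 := fun h => hx₁ (h ▸ V₁.zero_mem)
    obtain ⟨w, hw, hfix⟩ := CfsgLib.Blocks.exists_fixed_ne_zero (F := F) hD ρ hx0
    exact ⟨w, hw, fun d hd => hfix ⟨d, hd⟩⟩
  let E : Subgroup (SpecialLinearGroup (Fin n) F) :=
    { carrier := {g | ∀ x, g.1 *ᵥ x - x ∈ V₁ ∧ (x ∈ V₁ → g.1 *ᵥ x = x)}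
      one_mem' := fun x => by
        show (1 : Matrix (Fin n) (Fin n) F) *ᵥ x - x ∈ V₁ ∧ (x ∈ V₁ → (1 : Matrix (Fin n) (Fin n) F) *ᵥ x = x)
        simp
      mul_mem' := fun {a b} ha hb x => by
        show (a.1 * b.1) *ᵥ x - x ∈ V₁ ∧ (x ∈ V₁ → (a.1 * b.1) *ᵥ x = x)
        rw [← Matrix.mulVec_mulVec]
        refine ⟨?_, fun hx => by rw [(hb x).2 hx, (ha x).2 hx]⟩
        have := V₁.add_mem (ha (b.1 *ᵥ x)).1 (hb x).1
        rwa [sub_add_sub_cancel] at this
      inv_mem' := fun {a} ha x => by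
        have hmul : a.1 *ᵥ ((a⁻¹).1 *ᵥ x) = x := by
          rw [Matrix.mulVec_mulVec]
          show (a * a⁻¹ : SpecialLinearGroup (Fin n) F).1 *ᵥ x = x
          rw [mul_inv_cancel]; exact Matrix.one_mulVec x
        have h1 := (ha ((a⁻¹).1 *ᵥ x)).1
        rw [hmul] at h1
        refine ⟨by simpa using V₁.neg_mem h1, fun hx => ?_⟩
        have h2 : (a⁻¹).1 *ᵥ x ∈ V₁ := by
          have := V₁.sub_mem hx h1
          simpa using this
        exact ((ha _).2 h2).symm.trans hmul }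
  have hEp : IsPGroup p E := by
    refine fun g => ⟨1, Subtype.ext (Subtype.ext (Matrix.ext_iff_mulVec.2 fun x => ?_))⟩
    have hr : ∀ r : ℕ, (g.1 ^ r).1 *ᵥ x = x + r • (g.1.1 *ᵥ x - x) := by
      intro r
      induction r with
      | zero => rw [pow_zero, zero_smul, add_zero]; exact Matrix.one_mulVec x
      | succ r ih =>
        rw [pow_succ']
        show (g.1.1 * (g.1 ^ r).1) *ᵥ x = _
        rw [← Matrix.mulVec_mulVec, ih, Matrix.mulVec_add, Matrix.mulVec_smul, (g.2 (g.1.1 *ᵥ x - x)).2 (g.2 x).1,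
          succ_nsmul]
        abel
    show (g.1 ^ p ^ 1).1 *ᵥ x = (1 : Matrix (Fin n) (Fin n) F) *ᵥ x
    rw [hr, pow_one, Matrix.one_mulVec]
    ext i
    simp [CharP.cast_eq_zero F p]
  set N := Subgroup.normalizer (D : Set (SpecialLinearGroup (Fin n) F)) with hN
  have hV₁N : ∀ g ∈ N, ∀ x ∈ V₁, g.1 *ᵥ x ∈ V₁ := by
    intro g hg x hx d hd
    have h1 : g⁻¹ * d * g ∈ D := by
      have := (Subgroup.mem_normalizer_iff.1 (N.inv_mem hg) d).1 hd
      rwa [inv_inv] at this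
    rw [Matrix.mulVec_mulVec]
    show (d * g).1 *ᵥ x = g.1 *ᵥ x
    rw [show d * g = g * (g⁻¹ * d * g) by group]
    show (g.1 * (g⁻¹ * d * g).1) *ᵥ x = _
    rw [← Matrix.mulVec_mulVec, hx _ h1]
  have hNE : N ≤ Subgroup.normalizer (E : Set (SpecialLinearGroup (Fin n) F)) := by
    intro g hg
    have key : ∀ h ∈ N, ∀ e ∈ E, h * e * h⁻¹ ∈ E := by
      intro h hh e he x
      show (h.1 * e.1 * (h⁻¹).1) *ᵥ x - x ∈ V₁ ∧ (x ∈ V₁ → (h.1 * e.1 * (h⁻¹).1) *ᵥ x = x)
      have hx : h.1 *ᵥ ((h⁻¹).1 *ᵥ x) = x := by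
        rw [Matrix.mulVec_mulVec]
        show (h * h⁻¹ : SpecialLinearGroup (Fin n) F).1 *ᵥ x = x
        rw [mul_inv_cancel]; exact Matrix.one_mulVec x
      rw [← Matrix.mulVec_mulVec, ← Matrix.mulVec_mulVec]
      refine ⟨?_, fun hx1 => by rw [(he _).2 (hV₁N _ (N.inv_mem hh) x hx1), hx]⟩
      have := hV₁N _ hh _ (he ((h⁻¹).1 *ᵥ x)).1
      rwa [Matrix.mulVec_sub, hx] at this
    rw [Subgroup.mem_normalizer_iff]
    intro e
    refine ⟨key g hg e, fun h => ?_⟩
    have h2 := key _ (N.inv_mem hg) _ h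
    simpa [mul_assoc] using h2
  have hDN : D ≤ N := Subgroup.le_normalizer
  set K := D ⊔ E with hK
  have hKp : IsPGroup p K := IsPGroup.to_sup_of_normal_right' hD hEp (hDN.trans hNE)
  have hNK : N ≤ Subgroup.normalizer (K : Set (SpecialLinearGroup (Fin n) F)) := by
    intro g hg
    rw [Subgroup.mem_normalizer_iff]
    have key : ∀ h ∈ N, ∀ y ∈ K, h * y * h⁻¹ ∈ K := by
      intro h hh
      have hle : K ≤ K.comap (MulAut.conj h).toMonoidHom := by
        refine sup_le (fun y hy => ?_) (fun y hy => ?_)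
        · exact Subgroup.mem_sup_left ((Subgroup.mem_normalizer_iff.1 hh y).1 hy)
        · exact Subgroup.mem_sup_right ((Subgroup.mem_normalizer_iff.1 (hNE hh) y).1 hy)
      exact fun y hy => hle hy
    intro y
    refine ⟨key g hg y, fun h => ?_⟩
    have h2 := key _ (N.inv_mem hg) _ h
    simpa [mul_assoc] using h2
  have hQ : K ⊓ N ≤ D := by
    refine hrad _ (hKp.to_le inf_le_left) inf_le_right fun g hg => ?_
    rw [Subgroup.mem_normalizer_iff]
    intro y
    simp only [Subgroup.mem_inf]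
    refine and_congr (Subgroup.mem_normalizer_iff.1 (hNK hg) y) ?_
    exact ⟨fun hy => N.mul_mem (N.mul_mem hg hy) (N.inv_mem hg), fun hy => by
      simpa [mul_assoc] using N.mul_mem (N.mul_mem (N.inv_mem hg) hy) hg⟩
  have hKD : K ≤ D := by
    by_contra hcon
    haveI := hKp.isNilpotent
    have hlt : D.subgroupOf K < ⊤ := by
      rw [lt_top_iff_ne_top]
      exact fun h => hcon (Subgroup.subgroupOf_eq_top.1 h)
    obtain ⟨k, hk, hkD⟩ := SetLike.exists_of_lt (normalizerCondition_of_isNilpotent _ hlt)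
    refine hkD (hQ ⟨k.2, ?_⟩)
    show (k : SpecialLinearGroup (Fin n) F) ∈ Subgroup.normalizer (D : Set (SpecialLinearGroup (Fin n) F))
    rw [Subgroup.mem_normalizer_iff]
    intro y
    constructor
    · intro hy
      have := (Subgroup.mem_normalizer_iff.1 hk ⟨y, le_sup_left (a := D) hy⟩).1 (Subgroup.mem_subgroupOf.2 hy)
      exact Subgroup.mem_subgroupOf.1 this
    · intro hy
      have hyK : y ∈ K := by
        have := K.mul_mem (K.mul_mem (K.inv_mem k.2) (le_sup_left (a := D) hy)) k.2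
        simpa [mul_assoc] using this
      exact Subgroup.mem_subgroupOf.1 ((Subgroup.mem_normalizer_iff.1 hk ⟨y, hyK⟩).2 (Subgroup.mem_subgroupOf.2 hy))
  have hED : E ≤ D := le_sup_right.trans hKD
  -- elements of `E` from vectors and forms
  have hcomm : ∀ w ∈ V₁, ∀ φ : V →ₗ[F] F, (∀ x ∈ V₁, φ x = 0) → ∀ x, φ x • (c.1 *ᵥ w) = φ (c.1 *ᵥ x) • w := by
    intro w hw φ hφ x
    let L : V →ₗ[F] V := φ.smulRight w
    have hLL : ∀ y, L (L y) = 0 := fun y => by simp [L, hφ w hw]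
    set A := LinearMap.toMatrix' L with hA
    have hAv : ∀ y, A *ᵥ y = φ y • w := fun y => by
      rw [hA, ← Matrix.toLin'_apply, Matrix.toLin'_toMatrix']; rfl
    have hAA : A * A = 0 := Matrix.ext_iff_mulVec.2 fun y => by
      rw [← Matrix.mulVec_mulVec, hAv, hAv, Matrix.zero_mulVec, map_smul, hφ w hw, smul_zero, zero_smul]
    let e : SpecialLinearGroup (Fin n) F := ⟨1 + A, det_one_add_eq_one p hAA⟩
    have he : e ∈ E := fun y => by
      show (1 + A) *ᵥ y - y ∈ V₁ ∧ (y ∈ V₁ → (1 + A) *ᵥ y = y)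
      rw [Matrix.add_mulVec, Matrix.one_mulVec, hAv, add_sub_cancel_left]
      exact ⟨V₁.smul_mem _ hw, fun hy => by rw [hφ y hy, zero_smul, add_zero]⟩
    have h := Subgroup.mem_centralizer_iff.1 hc e (hED he)
    have h2 := congrArg (fun z : SpecialLinearGroup (Fin n) F => z.1 *ᵥ x) h
    replace h2 : ((1 + A) * c.1) *ᵥ x = (c.1 * (1 + A)) *ᵥ x := h2
    rw [← Matrix.mulVec_mulVec, ← Matrix.mulVec_mulVec, Matrix.add_mulVec, Matrix.add_mulVec, Matrix.one_mulVec,
      Matrix.one_mulVec, hAv, hAv, Matrix.mulVec_add, Matrix.mulVec_smul] at h2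
    exact (add_left_cancel h2).symm
  obtain ⟨φ₀, hφ₀x, hφ₀⟩ := Submodule.exists_dual_map_eq_bot_of_notMem hx₁ inferInstance
  have hφ₀' : ∀ x ∈ V₁, φ₀ x = 0 := fun x hx => by
    have := Submodule.mem_map_of_mem (f := φ₀) hx
    rwa [hφ₀, Submodule.mem_bot] at this
  set s : F := φ₀ (c.1 *ᵥ x₁) / φ₀ x₁ with hs
  have hsV₁ : ∀ w ∈ V₁, c.1 *ᵥ w = s • w := fun w hw => by
    have h := hcomm w hw φ₀ hφ₀' x₁
    rw [hs, div_eq_inv_mul, mul_smul, ← h, inv_smul_smul₀ hφ₀x]
  have hquot : ∀ x, c.1 *ᵥ x - s • x ∈ V₁ := by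
    intro x
    by_contra hx
    obtain ⟨φ, hφx, hφ⟩ := Submodule.exists_dual_map_eq_bot_of_notMem hx inferInstance
    refine hφx ?_
    have hφ' : ∀ x ∈ V₁, φ x = 0 := fun x hx => by
      have := Submodule.mem_map_of_mem (f := φ) hx
      rwa [hφ, Submodule.mem_bot] at this
    have h := hcomm v₀ hv₀fix φ hφ' x
    rw [hsV₁ v₀ hv₀fix, smul_smul] at h
    have h' := smul_left_injective F hv₀ h
    rw [map_sub, map_smul, smul_eq_mul, ← h', mul_comm, sub_self]
  have hs0 : s ≠ 0 := by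
    intro h
    have h1 := hsV₁ v₀ hv₀fix
    rw [h, zero_smul] at h1
    refine hv₀ ?_
    have h2 := congrArg (fun z => (c⁻¹).1 *ᵥ z) h1
    simp only [Matrix.mulVec_mulVec, Matrix.mulVec_zero] at h2
    rw [show (c⁻¹).1 * c.1 = 1 from congrArg Subtype.val (inv_mul_cancel c), Matrix.one_mulVec] at h2
    exact h2
  set A : Matrix (Fin n) (Fin n) F := s⁻¹ • c.1 - 1 with hA
  have hAv : ∀ x, A *ᵥ x = s⁻¹ • (c.1 *ᵥ x - s • x) := fun x => by
    rw [hA, Matrix.sub_mulVec, Matrix.smul_mulVec, Matrix.one_mulVec, smul_sub, smul_smul,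
      inv_mul_cancel₀ hs0, one_smul]
  have hAV₁ : ∀ x ∈ V₁, A *ᵥ x = 0 := fun x hx => by rw [hAv, hsV₁ x hx, sub_self, smul_zero]
  have hAim : ∀ x, A *ᵥ x ∈ V₁ := fun x => by rw [hAv]; exact V₁.smul_mem _ (hquot x)
  have hAA : A * A = 0 := Matrix.ext_iff_mulVec.2 fun x => by
    rw [← Matrix.mulVec_mulVec, hAV₁ _ (hAim x), Matrix.zero_mulVec]
  let e : SpecialLinearGroup (Fin n) F := ⟨1 + A, det_one_add_eq_one p hAA⟩
  have he : e ∈ E := fun y => by
    show (1 + A) *ᵥ y - y ∈ V₁ ∧ (y ∈ V₁ → (1 + A) *ᵥ y = y)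
    rw [Matrix.add_mulVec, Matrix.one_mulVec, add_sub_cancel_left]
    exact ⟨hAim y, fun hy => by rw [hAV₁ y hy, add_zero]⟩
  refine ⟨c * e⁻¹, ?_, e, hED he, (inv_mul_cancel_right c e).symm⟩
  have hce : (c : SpecialLinearGroup (Fin n) F).1 = s • (1 + A) := by
    rw [hA, add_sub_cancel, smul_smul, mul_inv_cancel₀ hs0, one_smul]
  have hz : (c * e⁻¹).1 = s • (1 : Matrix (Fin n) (Fin n) F) := by
    show c.1 * (e⁻¹).1 = _
    rw [hce, Matrix.smul_mul, show (1 + A) * (e⁻¹).1 = 1 from congrArg Subtype.val (mul_inv_cancel e)]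
  rw [Subgroup.mem_center_iff]
  intro g
  refine Subtype.ext ?_
  show g.1 * (c * e⁻¹).1 = (c * e⁻¹).1 * g.1
  rw [hz, Matrix.mul_smul, Matrix.smul_mul, Matrix.mul_one, Matrix.one_mul]

end CfsgLib.SLProjective
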