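import Cfsg.Agent.Lib.Char.Exceptional.SLProjective.Module
import Cfsg.Agent.Lib.Char.Exceptional.SLProjective.DefectZeroModule
import Cfsg.Agent.Lib.Char.Exceptional.SLProjective.Radical
import Cfsg.Agent.Lib.Char.Exceptional.Orth.Small
import Cfsg.Agent.Lib.Blocks.FirstMain
import Cfsg.Agent.Lib.Blocks.DefectNumber
import Cfsg.Agent.Lib.Classical.LinearOrder

/-!
# The blocks of the special linear group in its own characteristic
-/

set_option autoImplicit false

namespace CfsgLib.SLProjective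

open Cfsg MonoidAlgebra CfsgLib.Blocks CfsgLib.IBr Matrix

variable {m : ℕ} {F : Type*} [Field F] [Fintype F] {p : ℕ} [Fact p.Prime] [CharP F p] {M : Ideal AlgInt} [M.IsPrime]

/-- There is a character of degree the p-part of the group order. -/
theorem exists_st_character :
    ∃ χ : IrrCharacter (SpecialLinearGroup (Fin (m + 1)) F),
      (charDegree (χ : SpecialLinearGroup (Fin (m + 1)) F → ℂ)).factorization p =
        (Nat.card (SpecialLinearGroup (Fin (m + 1)) F)).factorization p := by
  classical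
  have hz : ¬ p ∣ Nat.card (QuotientGroup.mk' (Subgroup.center (SpecialLinearGroup (Fin (m + 1)) F))).ker := by
    rw [QuotientGroup.ker_mk', CfsgLib.Classical.card_center_SL]
    intro h
    have h1 := h.trans (Nat.gcd_dvd_right _ _)
    obtain ⟨e, hp, he⟩ := FiniteField.card F p
    have h2 : p ∣ Fintype.card F := he ▸ dvd_pow_self p e.ne_zero
    have hq : 1 ≤ Fintype.card F := Fintype.card_pos
    have h3 := Nat.dvd_sub h2 h1
    rw [show Fintype.card F - (Fintype.card F - 1) = 1 by omega] at h3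
    exact (Fact.out : p.Prime).one_lt.ne' (Nat.dvd_one.1 h3)
  obtain ⟨χ, hχ, hS⟩ := CfsgLib.OrthFlags.HasSteinberg.of_surjective p _ (QuotientGroup.mk'_surjective _) hz
    (CfsgLib.PSLSteinberg.exists_steinberg (n := m + 1) (F := F) p)
  refine ⟨⟨χ, hχ⟩, ?_⟩
  obtain ⟨S⟩ : Nonempty (Sylow p (SpecialLinearGroup (Fin (m + 1)) F)) := inferInstance
  have h1 := (hS S).1
  rw [S.card_eq_multiplicity] at h1
  have h2 := (apply_one_eq_charDegree (⟨χ, hχ⟩ : IrrCharacter (SpecialLinearGroup (Fin (m + 1)) F))).symm.trans h1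
  rw [Nat.cast_inj] at h2
  rw [h2, Nat.Prime.factorization_pow Fact.out, Finsupp.single_eq_same]

omit [CharP F p] in
theorem blockDefect_blockOf {G : Type*} [Group G] [Fintype G] (hM : IsPModular p M) (χ : IrrCharacter G)
    (h : (charDegree (χ : G → ℂ)).factorization p = (Nat.card G).factorization p) :
    blockDefect p (blockOf M (χ : G → ℂ)) = 0 := by
  obtain ⟨q, hq⟩ := CfsgLib.CharDegree.charDegree_dvd_card χ
  have hd0 := CfsgLib.CharDegree.charDegree_pos χ
  have hq0 : q ≠ 0 := fun e => (Nat.card_pos (α := G)).ne' (by rw [hq, e, mul_zero])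
  have hndvd : ¬ p ∣ Nat.card G / charDegree (χ : G → ℂ) := by
    rw [hq, Nat.mul_div_cancel_left _ hd0]
    intro hd
    have h3 := hM.1.factorization_pos_of_dvd hq0 hd
    rw [hq, Nat.factorization_mul hd0.ne' hq0, Finsupp.add_apply] at h
    omega
  rw [blockOf_eq_singleton hM χ hndvd]
  simp [blockDefect, h]

/-- At most one block of defect zero. -/
theorem eq_of_defect_zero (hm : 1 ≤ m) (hM : IsPModular p M)
    {B B' : Set (IrrCharacter (SpecialLinearGroup (Fin (m + 1)) F))} (hB : IsPBlock M B) (hB' : IsPBlock M B')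
    (hd : blockDefect p B = 0) (hd' : blockDefect p B' = 0) : B = B' := by
  classical
  haveI : CharP (Res M) p := charP_residueField hM
  haveI : IsAlgClosed (Res M) := CfsgLib.Star.isAlgClosed_res
  haveI : Fintype (Up (m + 1) F) := Fintype.ofFinite _
  obtain ⟨D⟩ := nonempty_data (G := SpecialLinearGroup (Fin (m + 1)) F) (M := M)
  obtain ⟨δ, hδ, hn⟩ := exists_delta hM D hB hd (Up (m + 1) F) (isPGroup_Up (p := p))
  obtain ⟨δ', hδ', hn'⟩ := exists_delta hM D hB' hd' (Up (m + 1) F) (isPGroup_Up (p := p))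
  by_contra hne
  have hδne : δ ≠ δ' := fun e => hne (by rw [← hδ, e, hδ'])
  let f : ∀ i : Fin D.n, MonoidAlgebra (Res M) (SpecialLinearGroup (Fin (m + 1)) F) →ₐ[Res M]
      Module.End (Res M) (Fin (D.d i) → Res M) := fun i =>
    (Matrix.toLinAlgEquiv' (R := Res M) (n := Fin (D.d i))).toAlgHom.comp
      ((Pi.evalAlgHom (Res M) (fun j => Matrix (Fin (D.d j)) (Fin (D.d j)) (Res M)) i).comp D.ψ)
  have hf : ∀ i a, f i a = Matrix.toLinAlgEquiv' (D.ψ a i) := fun i a => rfl
  let ρ : ∀ i : Fin D.n, Representation (Res M) (SpecialLinearGroup (Fin (m + 1)) F) (Fin (D.d i) → Res M) :=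
    fun i => ((f i : MonoidAlgebra (Res M) _ →* Module.End (Res M) _)).comp (MonoidAlgebra.of (Res M) _)
  have hlin : ∀ i (W : Submodule (Res M) (Fin (D.d i) → Res M)), (∀ g, ∀ w ∈ W, ρ i g w ∈ W) →
      ∀ a, ∀ w ∈ W, f i a w ∈ W := by
    intro i W hW a
    induction a using MonoidAlgebra.induction_on with
    | of g => exact fun w hw => hW g w hw
    | add a b ha hb => exact fun w hw => by rw [map_add]; exact W.add_mem (ha w hw) (hb w hw)
    | smul r a ha => exact fun w hw => by rw [map_smul]; exact W.smul_mem r (ha w hw)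
  have hirr : ∀ i (W : Submodule (Res M) (Fin (D.d i) → Res M)),
      (∀ g, ∀ w ∈ W, ρ i g w ∈ W) → W = ⊥ ∨ W = ⊤ := by
    intro i W hW
    by_cases h0 : W = ⊥
    · exact Or.inl h0
    refine Or.inr (eq_top_iff.2 fun x _ => ?_)
    obtain ⟨w, hw, hw0⟩ := (Submodule.ne_bot_iff _).1 h0
    obtain ⟨j, hj⟩ := Function.ne_iff.1 hw0
    let A : Matrix (Fin (D.d i)) (Fin (D.d i)) (Res M) := Matrix.vecMulVec x (Pi.single j (w j)⁻¹)
    obtain ⟨a, ha⟩ := D.surj (Pi.single i A)
    have h := hlin i W hW a w hw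
    rw [hf, ha, Pi.single_eq_same, Matrix.toLinAlgEquiv'_apply, Matrix.vecMulVec_mulVec, single_dotProduct,
      inv_mul_cancel₀ hj] at h
    simpa using h
  have hN : ∀ i, D.ψ (∑ u : Up (m + 1) F, single (u : SpecialLinearGroup (Fin (m + 1)) F) 1) i ≠ 0 →
      normUp (ρ i) ≠ 0 := by
    intro i h h0
    refine h (Matrix.toLinAlgEquiv'.injective ?_)
    rw [map_zero, ← hf, map_sum]
    refine Eq.trans ?_ h0
    simp only [normUp]
    exact Finset.sum_congr (by ext; simp) fun u _ => rfl
  obtain ⟨e, he⟩ := exists_intertwiner (p := p) hm (ρ δ) (ρ δ') (hirr δ) (hN δ hn) (hirr δ') (hN δ' hn')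
  have hext : ∀ a x, e (f δ a x) = f δ' a (e x) := by
    intro a
    induction a using MonoidAlgebra.induction_on with
    | of g => exact fun x => he g x
    | add a b ha hb => exact fun x => by simp [ha, hb]
    | smul r a ha => exact fun x => by simp [ha]
  obtain ⟨a, ha⟩ := D.surj (Pi.single δ 1)
  have h1 : f δ a = 1 := by rw [hf, ha, Pi.single_eq_same, map_one]
  have h2 : f δ' a = 0 := by rw [hf, ha, Pi.single_eq_of_ne hδne.symm, map_zero]
  have h := hext a (Pi.single ⟨0, Nat.pos_of_ne_zero (NeZero.ne _)⟩ 1)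
  rw [h1, h2, Module.End.one_apply, LinearMap.zero_apply, LinearEquiv.map_eq_zero_iff] at h
  simpa using congrFun h ⟨0, Nat.pos_of_ne_zero (NeZero.ne _)⟩

/-- A block is of defect zero or of full defect. -/
theorem defect_zero_or_full {n : ℕ} (hM : IsPModular p M)
    {B : Set (IrrCharacter (SpecialLinearGroup (Fin n) F))} (hB : IsPBlock M B) :
    blockDefect p B = 0 ∨ blockDefect p B = (Nat.card (SpecialLinearGroup (Fin n) F)).factorization p := by
  classical
  by_cases hd : blockDefect p B = 0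
  · exact Or.inl hd
  refine Or.inr ?_
  obtain ⟨D, hD⟩ := exists_isDefectGroup (p := p) hB
  have hDp := IsDefectGroup.isPGroup hD
  have hcard := IsDefectGroup.card_eq hM hB hD
  have hne : D ≠ ⊥ := fun h => by
    rw [h, Subgroup.card_bot] at hcard
    exact hd ((Nat.pow_eq_one.1 hcard.symm).resolve_left (Fact.out : p.Prime).one_lt.ne')
  haveI : Fintype (Subgroup.normalizer (D : Set (SpecialLinearGroup (Fin n) F))) := Fintype.ofFinite _
  obtain ⟨b, ⟨hb, hbD, -⟩, -⟩ := existsUnique_correspondent hM hB hD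
  have hrad : ∀ Q : Subgroup (SpecialLinearGroup (Fin n) F), IsPGroup p Q →
      Q ≤ Subgroup.normalizer (D : Set (SpecialLinearGroup (Fin n) F)) →
      Subgroup.normalizer (D : Set (SpecialLinearGroup (Fin n) F)) ≤
        Subgroup.normalizer (Q : Set (SpecialLinearGroup (Fin n) F)) → Q ≤ D := by
    intro Q hQ hQN hNQ
    haveI : (Q.subgroupOf (Subgroup.normalizer (D : Set (SpecialLinearGroup (Fin n) F)))).Normal :=
      ⟨fun x hx g => Subgroup.mem_subgroupOf.2
        ((Subgroup.mem_normalizer_iff.1 (hNQ g.2) x.1).1 (Subgroup.mem_subgroupOf.1 hx))⟩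
    have h := IsDefectGroup.normal_le hM hb hbD
      (P := Q.subgroupOf (Subgroup.normalizer (D : Set (SpecialLinearGroup (Fin n) F))))
      (hQ.of_equiv (Subgroup.subgroupOfEquivOfLe hQN).symm)
    exact fun x hx => Subgroup.mem_subgroupOf.1 (h (show (⟨x, hQN hx⟩ : Subgroup.normalizer
      (D : Set (SpecialLinearGroup (Fin n) F))) ∈ _ from Subgroup.mem_subgroupOf.2 hx))
  obtain ⟨g, hg, P, hDP⟩ := hD
  have hgC : g ∈ Subgroup.centralizer (D : Set (SpecialLinearGroup (Fin n) F)) := by
    refine Subgroup.mem_centralizer_iff.2 fun d hd => ?_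
    rw [hDP] at hd
    obtain ⟨d', -, rfl⟩ := Subgroup.mem_map.1 hd
    exact (Subgroup.mem_centralizer_iff.1 d'.2 g rfl).symm
  have hreg := IsDefectClass.not_dvd_orderOf hM hB hg
  obtain ⟨z, hz, d, hdD, hgzd⟩ := centralizer_le_center_sup p hDp hne hrad hgC
  obtain ⟨k, hk⟩ := hDp ⟨d, hdD⟩
  have hk' : d ^ p ^ k = 1 := congrArg Subtype.val hk
  have hpow : g ^ p ^ k ∈ Subgroup.center (SpecialLinearGroup (Fin n) F) := by
    rw [hgzd, Commute.mul_pow (Subgroup.mem_center_iff.1 hz d).symm, hk', mul_one]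
    exact Subgroup.pow_mem _ hz _
  have hgcen : g ∈ Subgroup.center (SpecialLinearGroup (Fin n) F) := by
    have hcop : Nat.Coprime (orderOf g) (p ^ k) :=
      Nat.Coprime.pow_right k (((Fact.out : p.Prime).coprime_iff_not_dvd).2 hreg).symm
    obtain ⟨r, hr⟩ := exists_pow_eq_self_of_coprime hcop.symm
    rw [← hr]
    exact Subgroup.pow_mem _ hpow _
  have htop : Subgroup.centralizer ({g} : Set (SpecialLinearGroup (Fin n) F)) = ⊤ := by
    rw [eq_top_iff]
    exact fun x _ => Subgroup.mem_centralizer_singleton_iff.2 (Subgroup.mem_center_iff.1 hgcen x)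
  have hDcard : Nat.card D = p ^ (Nat.card (SpecialLinearGroup (Fin n) F)).factorization p := by
    rw [hDP, Subgroup.card_map_of_injective (Subgroup.subtype_injective _), P.card_eq_multiplicity, htop,
      Subgroup.card_top]
  exact Nat.pow_right_injective (Fact.out : p.Prime).two_le (hcard.symm.trans hDcard)

end CfsgLib.SLProjective
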