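import Cfsg.Agent.Lib.Char.Exceptional.SLProjective.Group
import Cfsg.Agent.Lib.Char.Exceptional.CrossChar
import Cfsg.Agent.Lib.Blocks.BrauerMap

/-!
# Simple modules of the special linear group on which the unipotent norm does not vanish

In the characteristic of the field there is at most one of them.
-/

set_option autoImplicit false

namespace CfsgLib.SLProjective

open Matrix

section Lower

variable {n : ℕ} {F : Type*} [Field F]

local notation "SLn" => SpecialLinearGroup (Fin n) F

/-- Lower unitriangular. -/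
def IsLower (g : SpecialLinearGroup (Fin n) F) : Prop :=
  ∀ a b : Fin n, a ≤ b → (g : Matrix (Fin n) (Fin n) F) a b = if a = b then 1 else 0

/-- The transposed element. -/
def tr (g : SpecialLinearGroup (Fin n) F) : SpecialLinearGroup (Fin n) F :=
  ⟨g.1ᵀ, by rw [Matrix.det_transpose]; exact g.det_coe⟩

theorem isLower_iff {g : SLn} : IsLower g ↔ tr g ∈ Up n F := by
  rw [mem_uniSL_iff]
  refine ⟨fun h a b hab => (h b a hab).trans (by simp [eq_comm]), fun h a b hab => (h b a hab).trans (by simp [eq_comm])⟩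

theorem tr_mul (g h : SLn) : tr (g * h) = tr h * tr g := Subtype.ext (Matrix.transpose_mul g.1 h.1)

theorem tr_one : tr (1 : SLn) = 1 := Subtype.ext Matrix.transpose_one

/-- The lower unitriangular subgroup. -/
def Lo (n : ℕ) (F : Type*) [Field F] : Subgroup (SpecialLinearGroup (Fin n) F) where
  carrier := {g | IsLower g}
  one_mem' := isLower_iff.2 (by rw [tr_one]; exact (Up n F).one_mem)
  mul_mem' {a b} ha hb := isLower_iff.2 (by rw [tr_mul]; exact (Up n F).mul_mem (isLower_iff.1 hb) (isLower_iff.1 ha))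
  inv_mem' {a} ha := isLower_iff.2 (by
    have h : tr a * tr a⁻¹ = 1 := by rw [← tr_mul, inv_mul_cancel, tr_one]
    rw [show tr a⁻¹ = (tr a)⁻¹ from (inv_eq_of_mul_eq_one_right h).symm]
    exact (Up n F).inv_mem (isLower_iff.1 ha))

theorem mem_Lo {g : SLn} : g ∈ Lo n F ↔ IsLower g := Iff.rfl

theorem transvection_mem_lo {a b : Fin n} (hab : b < a) (c : F) :
    SpecialLinearGroup.transvection hab.ne' c ∈ Lo n F := by
  intro x y hxy
  rw [val_transvection, Matrix.add_apply, Matrix.one_apply, Matrix.single_apply,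
    if_neg (show ¬(a = x ∧ b = y) by rintro ⟨rfl, rfl⟩; exact absurd hxy (not_le.2 hab)), add_zero]

theorem IsMono.conj_delta {m : SLn} {σ : Equiv.Perm (Fin n)} {ε : Fin n → F} (hm : IsMono m σ ε) {g : SLn}
    {a b : Fin n} (h : g.1 a b = if a = b then 1 else 0) :
    (m * g * m⁻¹ : SLn).1 (σ a) (σ b) = if σ a = σ b then 1 else 0 := by
  have he : (m * g * m⁻¹ : SLn).1 (σ a) (σ b) * ε b = ε a * g.1 a b := hm.conj_entry g a b
  rw [h] at he
  by_cases hab : a = b
  · subst hab
    rw [if_pos rfl, mul_one] at he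
    rw [if_pos rfl]
    exact mul_right_cancel₀ (hm.ne_zero a) (he.trans (one_mul _).symm)
  · rw [if_neg hab, mul_zero, mul_eq_zero] at he
    rw [if_neg (σ.injective.ne hab)]
    exact he.resolve_right (hm.ne_zero b)

theorem swap_adj {i j : Fin n} (h : j.val = i.val + 1) {a b : Fin n} (hab : a < b) :
    Equiv.swap i j a < Equiv.swap i j b ∨ a = i ∧ b = j := by
  rw [Fin.lt_def] at hab
  rw [Fin.lt_def, Equiv.swap_apply_def, Equiv.swap_apply_def]
  simp only [Fin.ext_iff]
  split_ifs <;> omega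

theorem weyl_conj_upper {i j : Fin n} (h : j.val = i.val + 1) (hne : i ≠ j) {g : SLn} (hg : g ∈ Up n F)
    (hij : g.1 i j = 0) : (weyl hne * g * (weyl hne)⁻¹ : SLn) ∈ Up n F ∧
      (weyl hne * g * (weyl hne)⁻¹ : SLn).1 i j = 0 := by
  have hd := mem_uniSL_iff.1 hg
  have hij' : g.1 j i = 0 := (hd j i (Fin.le_def.2 (by omega))).trans (if_neg hne.symm)
  refine ⟨mem_uniSL_iff.2 fun x y hyx => ?_, ?_⟩
  · obtain ⟨a, rfl⟩ := (Equiv.swap i j).surjective x
    obtain ⟨b, rfl⟩ := (Equiv.swap i j).surjective y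
    refine (isMono_weyl hne).conj_delta ?_
    rcases lt_or_ge a b with hab | hab
    · rcases swap_adj h hab with h' | ⟨rfl, rfl⟩
      · exact absurd hyx (not_le.2 h')
      · rw [hij, if_neg hne]
    · exact hd a b hab
  · have := (isMono_weyl hne).conj_delta (g := g) (a := j) (b := i) (hij'.trans (if_neg hne.symm).symm)
    rw [Equiv.swap_apply_left, Equiv.swap_apply_right, if_neg hne] at this
    exact this

theorem weyl_conj_lower {i j : Fin n} (h : j.val = i.val + 1) (hne : i ≠ j) {g : SLn} (hg : g ∈ Lo n F)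
    (hji : g.1 j i = 0) : (weyl hne * g * (weyl hne)⁻¹ : SLn) ∈ Lo n F := by
  intro x y hxy
  obtain ⟨a, rfl⟩ := (Equiv.swap i j).surjective x
  obtain ⟨b, rfl⟩ := (Equiv.swap i j).surjective y
  refine (isMono_weyl hne).conj_delta ?_
  rcases lt_or_ge b a with hab | hab
  · rcases swap_adj h hab with h' | ⟨rfl, rfl⟩
    · exact absurd hxy (not_le.2 h')
    · rw [hji, if_neg hne.symm]
  · exact hg a b hab

theorem adj_add {i j : Fin n} (h : j.val = i.val + 1) {g g' : SLn} (hg : g ∈ Up n F) (hg' : g' ∈ Up n F) :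
    (g * g' : SLn).1 i j = g.1 i j + g'.1 i j := by
  have hd := mem_uniSL_iff.1 hg
  have hd' := mem_uniSL_iff.1 hg'
  have hne : i ≠ j := fun e => by rw [e] at h; omega
  rw [val_mul_apply, Fintype.sum_eq_add i j hne]
  · rw [show g.1 i i = 1 from (hd i i le_rfl).trans (if_pos rfl),
      show g'.1 j j = 1 from (hd' j j le_rfl).trans (if_pos rfl), one_mul, mul_one, add_comm]
  · intro c hc
    rcases le_or_gt c i with hci | hci
    · rw [show g.1 i c = 0 from (hd i c hci).trans (if_neg hc.1.symm), zero_mul]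
    · rw [show g'.1 c j = 0 from (hd' c j (by rw [Fin.le_def]; rw [Fin.lt_def] at hci; omega)).trans (if_neg hc.2),
        mul_zero]

theorem adj_add_lower {i j : Fin n} (h : j.val = i.val + 1) {g g' : SLn} (hg : g ∈ Lo n F) (hg' : g' ∈ Lo n F) :
    (g * g' : SLn).1 j i = g.1 j i + g'.1 j i := by
  have := adj_add h (isLower_iff.1 hg') (isLower_iff.1 hg)
  rw [← tr_mul] at this
  exact this.trans (add_comm _ _)

theorem transvection_entry {a b : Fin n} (h : a ≠ b) (c : F) :
    (SpecialLinearGroup.transvection h c : SLn).1 a b = c := by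
  simp [val_transvection, Matrix.one_apply_ne h]

theorem transvection_zero {a b : Fin n} (h : a ≠ b) : (SpecialLinearGroup.transvection h (0 : F) : SLn) = 1 := by
  refine Subtype.ext ?_
  simp [val_transvection]

theorem conj_rev_iff {m0 : SLn} {ε : Fin n → F} (hm : IsMono m0 Fin.revPerm ε) (g : SLn) :
    m0 * g * m0⁻¹ ∈ Up n F ↔ g ∈ Lo n F := by
  constructor
  · intro h a b hab
    have hx := mem_uniSL_iff.1 h (Fin.revPerm a) (Fin.revPerm b) (Fin.rev_le_rev.2 hab)
    have he : (m0 * g * m0⁻¹ : SLn).1 (Fin.revPerm a) (Fin.revPerm b) * ε b = ε a * g.1 a b := hm.conj_entry g a b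
    rw [show (m0 * g * m0⁻¹ : SLn).1 (Fin.revPerm a) (Fin.revPerm b) = _ from hx] at he
    by_cases hab' : a = b
    · subst hab'
      rw [if_pos rfl, one_mul] at he
      rw [if_pos rfl]
      exact mul_left_cancel₀ (hm.ne_zero a) (he.symm.trans (mul_one _).symm)
    · rw [if_neg ((Fin.revPerm).injective.ne hab'), zero_mul, eq_comm, mul_eq_zero] at he
      rw [if_neg hab']
      exact he.resolve_left (hm.ne_zero a)
  · intro h
    refine mem_uniSL_iff.2 fun x y hyx => ?_
    obtain ⟨a, rfl⟩ := (Fin.revPerm (n := n)).surjective x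
    obtain ⟨b, rfl⟩ := (Fin.revPerm (n := n)).surjective y
    exact hm.conj_delta (h a b (Fin.rev_le_rev.1 hyx))

/-- Diagonal. -/
def IsDiag (g : SpecialLinearGroup (Fin n) F) : Prop :=
  ∀ a b : Fin n, a ≠ b → g.1 a b = 0

theorem IsDiag.eq_diagonal {g : SLn} (h : IsDiag g) : g.1 = Matrix.diagonal fun a => g.1 a a := by
  ext a b
  by_cases hab : a = b
  · subst hab; simp
  · rw [Matrix.diagonal_apply_ne _ hab, h a b hab]

theorem IsDiag.commute {g g' : SLn} (h : IsDiag g) (h' : IsDiag g') : Commute g g' := by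
  refine Subtype.ext ?_
  show g.1 * g'.1 = g'.1 * g.1
  rw [h.eq_diagonal, h'.eq_diagonal, Matrix.diagonal_mul_diagonal, Matrix.diagonal_mul_diagonal]
  simp [mul_comm]

theorem IsDiag.isMono {g : SLn} (h : IsDiag g) : IsMono g 1 fun a => g.1 a a := fun a b => by
  rw [Equiv.Perm.one_apply]
  split_ifs with hab
  · subst hab; rfl
  · exact h a b hab

theorem IsDiag.conj_upper {t g : SLn} (ht : IsDiag t) (hg : g ∈ Up n F) : t * g * t⁻¹ ∈ Up n F := by
  refine mem_uniSL_iff.2 fun a b hba => ?_
  exact ht.isMono.conj_delta (mem_uniSL_iff.1 hg a b hba)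

theorem exists_torus_mul {b : SLn} (hb : b.1.BlockTriangular id) :
    ∃ t, IsDiag t ∧ ∃ u ∈ Up n F, b = t * u := by
  classical
  let d : Fin n → F := fun i => b.1 i i
  have hdet : ∏ i, d i = 1 := by rw [← Matrix.det_of_isUpperTriangular hb]; exact b.det_coe
  have hd : ∀ i, d i ≠ 0 := fun i => (Finset.prod_ne_zero_iff (f := d)).1 (by rw [hdet]; exact one_ne_zero) i
    (Finset.mem_univ i)
  let t : SLn := ⟨Matrix.diagonal d, by rw [Matrix.det_diagonal, hdet]⟩
  refine ⟨t, fun a c hac => Matrix.diagonal_apply_ne _ hac, t⁻¹ * b, mem_uniSL_iff.2 fun a c hca => ?_,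
    (mul_inv_cancel_left t b).symm⟩
  have h : b.1 a c = d a * (t⁻¹ * b : SLn).1 a c := by
    conv_lhs => rw [← mul_inv_cancel_left t b]
    show (Matrix.diagonal d * (t⁻¹ * b : SLn).1) a c = _
    rw [Matrix.diagonal_mul]
  rcases hca.eq_or_lt with rfl | hlt
  · rw [if_pos rfl]
    exact mul_left_cancel₀ (hd c) (h.symm.trans (mul_one _).symm)
  · rw [if_neg hlt.ne']
    exact (mul_eq_zero.1 (h.symm.trans (hb hlt))).resolve_left (hd a)

end Lower

variable {m : ℕ} {F : Type*} [Field F] [Fintype F] [DecidableEq F] {k : Type*} [Field k]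
  {p : ℕ} [hpP : Fact p.Prime] [hFp : CharP F p] [hkp : CharP k p]


omit [DecidableEq F] in
/-- Finiteness of the upper group, for sums. -/
noncomputable local instance instFintypeUp : Fintype (Up (m + 1) F) := Fintype.ofFinite _

omit [DecidableEq F] in
/-- Finiteness of the lower group, for sums. -/
noncomputable local instance instFintypeLo : Fintype (Lo (m + 1) F) := Fintype.ofFinite _

include p hpP hFp hkp in
theorem card_cast_eq_zero : ((Fintype.card F : ℕ) : k) = 0 := by
  obtain ⟨e, hp, he⟩ := FiniteField.card F p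
  rw [he, Nat.cast_pow, CharP.cast_eq_zero k p, zero_pow e.ne_zero]

theorem isPGroup_Up : IsPGroup p (Up (m + 1) F) := by
  obtain ⟨e, hp, he⟩ := FiniteField.card F p
  exact IsPGroup.of_card (n := (e : ℕ) * ((m + 1) * (m + 1 - 1) / 2))
    (by rw [CfsgLib.PSLSteinberg.card_uniSL, he, pow_mul])

theorem isPGroup_Lo : IsPGroup p (Lo (m + 1) F) := by
  have hU := isPGroup_Up (m := m) (F := F) (p := p)
  intro g
  obtain ⟨e, he⟩ := hU ⟨tr g.1, isLower_iff.1 g.2⟩
  refine ⟨e, ?_⟩
  have h1 : tr (g.1) ^ p ^ e = 1 := congrArg Subtype.val he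
  have key : ∀ r : ℕ, tr (g.1 ^ r) = tr g.1 ^ r := by
    intro r
    induction r with
    | zero => rw [pow_zero, pow_zero, tr_one]
    | succ r ih => rw [pow_succ, tr_mul, ih, ← pow_succ']
  refine Subtype.ext ?_
  have h2 : tr (g.1 ^ p ^ e) = tr 1 := by rw [key, h1, tr_one]
  have h3 := congrArg (fun z : (SpecialLinearGroup (Fin (m + 1)) F) => z.1ᵀ) h2
  simp only [tr, Matrix.transpose_transpose] at h3
  exact Subtype.ext h3

/-- A sum over a `p`-group of translates of a vector fixed by an element of order dividing into `p` vanishes. -/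
theorem sum_eq_zero_of_fixed {K : Type*} [Group K] [Fintype K] {V : Type*} [AddCommGroup V] [Module k V]
    (ρ : Representation k K V) (w : V) (x : K) (hx : x ≠ 1) (hK : IsPGroup p K) (hfix : ρ x w = w) :
    ∑ u : K, ρ u w = 0 := by
  classical
  let X := Subgroup.zpowers x
  have hXfix : ∀ y ∈ X, ρ y w = w := by
    intro y hy
    obtain ⟨r, rfl⟩ := (mem_powers_iff_mem_zpowers (x := x)).2 hy
    show ρ (x ^ r) w = w
    clear hy
    induction r with
    | zero => simp
    | succ r ih => rw [pow_succ, map_mul, Module.End.mul_apply, hfix, ih]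
  have hcard : (Nat.card X : k) = 0 := by
    obtain ⟨e, he⟩ := IsPGroup.iff_card.1 (hK.to_subgroup X)
    have he0 : e ≠ 0 := fun h0 => hx (Subgroup.zpowers_eq_bot.1 (Subgroup.card_eq_one.1 (by rw [he, h0, pow_zero])))
    rw [he, Nat.cast_pow, CharP.cast_eq_zero k p, zero_pow he0]
  rw [← Finset.sum_fiberwise (g := fun u : K => (u : K ⧸ X))]
  refine Finset.sum_eq_zero fun q _ => ?_
  obtain ⟨u₀, rfl⟩ := QuotientGroup.mk_surjective q
  have hconst : ∀ u ∈ Finset.univ.filter (fun u : K => (u : K ⧸ X) = u₀), ρ u w = ρ u₀ w := by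
    intro u hu
    have h := QuotientGroup.eq.1 (Finset.mem_filter.1 hu).2.symm
    conv_lhs => rw [← mul_inv_cancel_left u₀ u, map_mul, Module.End.mul_apply, hXfix _ h]
  rw [Finset.sum_congr rfl hconst, Finset.sum_const]
  have hcnt : (Finset.univ.filter (fun u : K => (u : K ⧸ X) = u₀)).card = Nat.card X := by
    rw [Nat.card_eq_fintype_card, ← Finset.card_univ]
    refine Finset.card_bij' (fun u hu => (⟨u₀⁻¹ * u, QuotientGroup.eq.1 (Finset.mem_filter.1 hu).2.symm⟩ : X))
      (fun y _ => u₀ * y.1) (fun _ _ => Finset.mem_univ _) (fun y _ => Finset.mem_filter.2 ⟨Finset.mem_univ _, ?_⟩)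
      (fun u _ => mul_inv_cancel_left u₀ u) fun y _ => Subtype.ext (inv_mul_cancel_left u₀ y.1)
    exact (QuotientGroup.eq.2 (by rw [inv_mul_cancel_left]; exact y.2)).symm
  rw [hcnt, ← Nat.cast_smul_eq_nsmul k, hcard, zero_smul]

variable {V : Type*} [AddCommGroup V] [Module k V] (ρ : Representation k (SpecialLinearGroup (Fin (m + 1)) F) V)

/-- The norm of the upper unitriangular group. -/
noncomputable def normUp : Module.End k V :=
  ∑ u : Up (m + 1) F, ρ u.1

/-- The norm of the lower unitriangular group. -/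
noncomputable def normLo : Module.End k V :=
  ∑ u : Lo (m + 1) F, ρ u.1

theorem normUp_fixed {u : (SpecialLinearGroup (Fin (m + 1)) F)} (hu : u ∈ Up (m + 1) F) (v : V) : ρ u (normUp ρ v) = normUp ρ v := by
  simp only [normUp, LinearMap.sum_apply, map_sum]
  refine Fintype.sum_equiv (Equiv.mulLeft ⟨u, hu⟩) _ _ fun w => ?_
  simp [map_mul]

theorem normUp_absorb {u : (SpecialLinearGroup (Fin (m + 1)) F)} (hu : u ∈ Up (m + 1) F) (v : V) : normUp ρ (ρ u v) = normUp ρ v := by
  simp only [normUp, LinearMap.sum_apply]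
  refine Fintype.sum_equiv (Equiv.mulRight ⟨u, hu⟩) _ _ fun w => ?_
  simp [map_mul]

/-- A vector generating the simple module in the required way. -/
structure Good (v : V) : Prop where
  up : ∀ u ∈ Up (m + 1) F, ρ u v = v
  torus : ∀ (i j : Fin (m + 1)), j.val = i.val + 1 → ∀ (h : i ≠ j) (c : F) (hc : c ≠ 0),
    ρ (SpecialLinearGroup.diag2n h c hc) v = v
  rel : ∀ (i j : Fin (m + 1)), j.val = i.val + 1 → ∀ (h : i ≠ j),
    ∑ z : F, ρ (SpecialLinearGroup.transvection h.symm z) v = -ρ (weyl h) v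

/-- The span of the lower translates. -/
noncomputable def loSpan (v : V) : Submodule k V :=
  Submodule.span k (Set.range fun u : Lo (m + 1) F => ρ u.1 v)

theorem loSpan_lower (v : V) {u : (SpecialLinearGroup (Fin (m + 1)) F)} (hu : u ∈ Lo (m + 1) F) {w : V} (hw : w ∈ loSpan ρ v) :
    ρ u w ∈ loSpan ρ v := by
  refine Submodule.span_induction (p := fun w _ => ρ u w ∈ loSpan ρ v) ?_ ?_ ?_ ?_ hw
  · rintro _ ⟨u', rfl⟩
    refine Submodule.subset_span ⟨⟨u * u'.1, (Lo (m + 1) F).mul_mem hu u'.2⟩, ?_⟩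
    simp [map_mul]
  · simp
  · intro a b _ _ ha hb; rw [map_add]; exact Submodule.add_mem _ ha hb
  · intro c a _ ha; rw [map_smul]; exact Submodule.smul_mem _ c ha

variable {ρ}

theorem Good.stable {v : V} (hv : Good ρ v) (hm : 1 ≤ m) (g : (SpecialLinearGroup (Fin (m + 1)) F)) {w : V} (hw : w ∈ loSpan ρ v) :
    ρ g w ∈ loSpan ρ v := by
  classical
  let H : Subgroup (SpecialLinearGroup (Fin (m + 1)) F) :=
    { carrier := {g | (loSpan ρ v).map (ρ g) ≤ loSpan ρ v}
      one_mem' := by simp [Module.End.one_eq_id]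
      mul_mem' := fun {a b} ha hb => by
        show (loSpan ρ v).map (ρ (a * b)) ≤ _
        rw [map_mul, Module.End.mul_eq_comp, Submodule.map_comp]
        exact le_trans (Submodule.map_mono hb) ha
      inv_mem' := fun {a} ha => by
        have hpow : ∀ r : ℕ, (loSpan ρ v).map (ρ (a ^ r)) ≤ loSpan ρ v := by
          intro r
          induction r with
          | zero => simp [Module.End.one_eq_id]
          | succ r ih =>
            rw [pow_succ, map_mul, Module.End.mul_eq_comp, Submodule.map_comp]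
            exact le_trans (Submodule.map_mono ha) ih
        show (loSpan ρ v).map (ρ a⁻¹) ≤ _
        rw [show a⁻¹ = a ^ (orderOf a - 1) from inv_eq_of_mul_eq_one_right (by
          rw [← pow_succ', Nat.sub_add_cancel (orderOf_pos a), pow_orderOf_eq_one])]
        exact hpow _ }
  suffices hH : H = ⊤ from (show (loSpan ρ v).map (ρ g) ≤ loSpan ρ v from hH.ge (Subgroup.mem_top g))
    (Submodule.mem_map_of_mem hw)
  have hvmem : v ∈ loSpan ρ v := Submodule.subset_span ⟨1, by simp⟩
  have hlo : ∀ u ∈ Lo (m + 1) F, u ∈ H := by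
    rintro u hu _ ⟨w, hw, rfl⟩
    exact loSpan_lower ρ v hu hw
  have hweyl : ∀ i : Fin m, (weyl (Fin.castSucc_lt_succ (i := i)).ne : (SpecialLinearGroup (Fin (m + 1)) F)) ∈ H := by
    intro i0
    set i := i0.castSucc
    set j := i0.succ
    have hij : j.val = i.val + 1 := by simp [i, j]
    have hne : i ≠ j := (Fin.castSucc_lt_succ (i := i0)).ne
    show (loSpan ρ v).map (ρ (weyl hne)) ≤ loSpan ρ v
    rw [loSpan, Submodule.map_span, Submodule.span_le]
    rintro _ ⟨_, ⟨u, rfl⟩, rfl⟩
    set a := u.1.1 j i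
    let u' := u.1 * SpecialLinearGroup.transvection hne.symm (-a)
    have hYlo : ∀ c : F, SpecialLinearGroup.transvection hne.symm c ∈ Lo (m + 1) F := fun c =>
      transvection_mem_lo (show i < j by rw [Fin.lt_def]; omega) c
    have hu' : u' ∈ Lo (m + 1) F := (Lo (m + 1) F).mul_mem u.2 (hYlo _)
    have hu'0 : u'.1 j i = 0 := by
      show (u.1 * SpecialLinearGroup.transvection hne.symm (-a)).1 j i = 0
      rw [adj_add_lower hij u.2 (hYlo _), transvection_entry]
      exact add_neg_cancel a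
    have hu : u.1 = u' * SpecialLinearGroup.transvection hne.symm a := by
      show u.1 = u.1 * SpecialLinearGroup.transvection hne.symm (-a) * SpecialLinearGroup.transvection hne.symm a
      rw [mul_assoc, ← transvection_add, neg_add_cancel, transvection_zero, mul_one]
    have hsplit : ρ (weyl hne) (ρ u.1 v) = ρ (weyl hne * u' * (weyl hne)⁻¹)
        (ρ (weyl hne * SpecialLinearGroup.transvection hne.symm a) v) := by
      rw [← Module.End.mul_apply, ← map_mul, ← Module.End.mul_apply, ← map_mul]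
      congr 1
      rw [hu]
      group
    show ρ (weyl hne) (ρ u.1 v) ∈ loSpan ρ v
    rw [hsplit]
    refine loSpan_lower ρ v (weyl_conj_lower hij hne hu' hu'0) ?_
    by_cases ha : a = 0
    · rw [ha, transvection_zero, mul_one, ← neg_neg (ρ (weyl hne) v), ← hv.rel i j hij hne]
      exact Submodule.neg_mem _ (Submodule.sum_mem _ fun z _ => loSpan_lower ρ v (hYlo z) hvmem)
    · rw [weyl_mul_lower hne ha, map_mul, map_mul, Module.End.mul_apply, Module.End.mul_apply,
        hv.up _ (transvection_mem_up (show i < j by rw [Fin.lt_def]; omega) _), hv.torus i j hij hne a ha]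
      exact loSpan_lower ρ v (hYlo _) hvmem
  haveI : Nontrivial (Fin (m + 1)) := Fin.nontrivial_iff_two_le.2 (by omega)
  refine CfsgLib.Classical.closure_transvection_eq_top H fun a b hab c => ?_
  let i0 : Fin (m + 1) := ⟨0, by omega⟩
  let j0 : Fin (m + 1) := ⟨1, by omega⟩
  have h01 : i0 < j0 := Nat.zero_lt_one
  let σ1 : Equiv.Perm (Fin (m + 1)) := Equiv.swap j0 a
  let σ : Equiv.Perm (Fin (m + 1)) := σ1 * Equiv.swap i0 (σ1 b)
  have hb' : σ1 b ≠ j0 := fun e => hab (by
    have := congrArg σ1 e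
    simp only [σ1, Equiv.swap_apply_self, Equiv.swap_apply_left] at this
    exact this.symm)
  have hσj : σ j0 = a := by
    simp only [σ, Equiv.Perm.mul_apply]
    rw [Equiv.swap_apply_of_ne_of_ne h01.ne' hb'.symm]
    exact Equiv.swap_apply_left _ _
  have hσi : σ i0 = b := by
    simp only [σ, Equiv.Perm.mul_apply, Equiv.swap_apply_left]
    exact Equiv.swap_apply_self _ _ _
  obtain ⟨mo, hmo, ε, hε⟩ := exists_mono hweyl σ
  have key := hε.mul_transvection h01.ne' (c * ε i0 / ε j0)
  have hval : ε j0 * (c * ε i0 / ε j0) / ε i0 = c := by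
    have := hε.ne_zero i0
    have := hε.ne_zero j0
    field_simp
  have hmem : mo * SpecialLinearGroup.transvection h01.ne' (c * ε i0 / ε j0) * mo⁻¹ ∈ H :=
    H.mul_mem (H.mul_mem hmo (hlo _ (transvection_mem_lo h01 _))) (H.inv_mem hmo)
  rw [key, mul_inv_cancel_right, hval] at hmem
  convert hmem using 2 <;> simp [hσi, hσj]

theorem normUp_apply_mono {m0 : (SpecialLinearGroup (Fin (m + 1)) F)} {ε : Fin (m + 1) → F} (hm0 : IsMono m0 Fin.revPerm ε) (v : V) :
    normUp ρ (ρ m0 v) = ρ m0 (normLo ρ v) := by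
  simp only [normUp, normLo, LinearMap.sum_apply, map_sum]
  refine (Fintype.sum_bijective (fun l : Lo (m + 1) F => (⟨m0 * l.1 * m0⁻¹, (conj_rev_iff hm0 _).2 l.2⟩ : Up (m + 1) F))
    ⟨?_, ?_⟩ _ _ fun l => ?_).symm
  · exact fun l l' h => Subtype.ext (mul_left_cancel (mul_right_cancel (congrArg Subtype.val h)))
  · refine fun u => ⟨⟨m0⁻¹ * u.1 * m0, (conj_rev_iff hm0 _).1 ?_⟩, Subtype.ext ?_⟩
    · rw [show m0 * (m0⁻¹ * u.1 * m0) * m0⁻¹ = u.1 by group]; exact u.2
    · show m0 * (m0⁻¹ * u.1 * m0) * m0⁻¹ = u.1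
      group
  · show _ = ρ (m0 * l.1 * m0⁻¹) (ρ m0 v)
    rw [← Module.End.mul_apply, ← Module.End.mul_apply, ← map_mul, ← map_mul, inv_mul_cancel_right]

variable (hirr : ∀ W : Submodule k V, (∀ g : (SpecialLinearGroup (Fin (m + 1)) F), ∀ w ∈ W, ρ g w ∈ W) → W = ⊥ ∨ W = ⊤) (hN : normUp ρ ≠ 0)

include p hpP hFp hkp hirr hN in
omit [DecidableEq F] in
/-- The lower norm does not kill an eigenvector of the Borel subgroup. -/
theorem normLo_ne_zero {v : V} (hv : v ≠ 0) (hup : ∀ u ∈ Up (m + 1) F, ρ u v = v)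
    (hT : ∀ t : (SpecialLinearGroup (Fin (m + 1)) F), IsDiag t → ∃ c : k, ρ t v = c • v) : normLo ρ v ≠ 0 := by
  classical
  intro h0
  let S : Submodule k V := Submodule.span k (Set.range fun g : (SpecialLinearGroup (Fin (m + 1)) F) => ρ g v)
  have hS : S = ⊤ := by
    refine (hirr S fun g w hw => ?_).resolve_left fun h => hv ?_
    · refine Submodule.span_induction (p := fun w _ => ρ g w ∈ S) ?_ ?_ ?_ ?_ hw
      · rintro _ ⟨g', rfl⟩
        exact Submodule.subset_span ⟨g * g', by simp [map_mul]⟩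
      · simp
      · intro a b _ _ ha hb; rw [map_add]; exact Submodule.add_mem _ ha hb
      · intro c a _ ha; rw [map_smul]; exact Submodule.smul_mem _ c ha
    · rw [← Submodule.mem_bot k, ← h]
      exact Submodule.subset_span ⟨1, by simp⟩
  choose mm hmm ee hee using fun σ => exists_mono (H := (⊤ : Subgroup (SpecialLinearGroup (Fin (m + 1)) F))) (fun _ => Subgroup.mem_top _) σ
  refine hN (LinearMap.ext fun w => ?_)
  suffices hker : S ≤ LinearMap.ker (normUp ρ) from hker (hS ▸ Submodule.mem_top)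
  rw [Submodule.span_le]
  rintro _ ⟨g, rfl⟩
  obtain ⟨u, hu, σ, b, hb, rfl⟩ := exists_bruhat_SL g mm ee hee
  obtain ⟨t, ht, u', hu', rfl⟩ := exists_torus_mul hb
  obtain ⟨c, hc⟩ := hT t ht
  show normUp ρ (ρ (u * mm σ * (t * u')) v) = 0
  rw [map_mul, map_mul, map_mul, Module.End.mul_apply, Module.End.mul_apply, Module.End.mul_apply, hup u' hu', hc,
    map_smul, map_smul, map_smul, normUp_absorb ρ hu]
  by_cases hσ : σ = Fin.revPerm
  · subst hσ
    rw [normUp_apply_mono (hee _), h0, map_zero, smul_zero]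
  · obtain ⟨i, j, hij, hlt⟩ : ∃ i j : Fin (m + 1), j.val = i.val + 1 ∧ σ i < σ j := by
      by_contra hcon
      refine hσ (CfsgLib.PSLSteinberg.eq_revPerm_of_no_ascent fun i j hij => ?_)
      refine lt_of_le_of_ne (not_lt.1 fun h => hcon ⟨i, j, hij, h⟩) (σ.injective.ne fun e => ?_)
      rw [e] at hij; omega
    have hne : i ≠ j := fun e => by rw [e] at hlt; exact lt_irrefl _ hlt
    have key := (hee σ).mul_transvection hne (1 : F)
    have hxu : SpecialLinearGroup.transvection hlt.ne (ee σ i * 1 / ee σ j) ∈ Up (m + 1) F := transvection_mem_up hlt _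
    have hfix : ρ (SpecialLinearGroup.transvection hlt.ne (ee σ i * 1 / ee σ j)) (ρ (mm σ) v) = ρ (mm σ) v := by
      rw [← Module.End.mul_apply, ← map_mul, ← key, map_mul, Module.End.mul_apply,
        hup _ (transvection_mem_up (show i < j by rw [Fin.lt_def]; omega) _)]
    have hne1 : (⟨_, hxu⟩ : Up (m + 1) F) ≠ 1 := fun e => by
      have h := congrArg (fun z : (SpecialLinearGroup (Fin (m + 1)) F) => z.1 (σ i) (σ j)) (congrArg Subtype.val e)
      simp only [transvection_entry] at h
      rw [show ((1 : Up (m + 1) F).1 : (SpecialLinearGroup (Fin (m + 1)) F)).1 (σ i) (σ j) = 0 from (val_one_apply _ _).trans (if_neg hlt.ne),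
        mul_one, div_eq_zero_iff] at h
      rcases h with h | h <;> exact (hee σ).ne_zero _ h
    have hz : normUp ρ (ρ (mm σ) v) = 0 := by
      simp only [normUp, LinearMap.sum_apply]
      exact sum_eq_zero_of_fixed (p := p) (ρ.comp (Up (m + 1) F).subtype) (ρ (mm σ) v) ⟨_, hxu⟩ hne1 isPGroup_Up hfix
    rw [hz, smul_zero]

include p hpP hFp hkp hirr hN in
theorem exists_good [IsAlgClosed k] [FiniteDimensional k V] :
    ∃ v : V, Good ρ v ∧ normLo ρ v ≠ 0 := by
  classical
  let W : Submodule k V :=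
    { carrier := {v | ∀ u ∈ Up (m + 1) F, ρ u v = v}
      add_mem' := fun ha hb u hu => by rw [map_add, ha u hu, hb u hu]
      zero_mem' := fun u _ => map_zero _
      smul_mem' := fun c a ha u hu => by rw [map_smul, ha u hu] }
  have hW : W ≠ ⊥ := fun h => hN (LinearMap.ext fun x => by
    have : normUp ρ x ∈ W := fun u hu => normUp_fixed ρ hu x
    rw [h, Submodule.mem_bot] at this
    exact this)
  obtain ⟨v₀, hv₀W, hv₀, μ, hμ⟩ := CfsgLib.CrossChar.exists_common_eigen
    (fun t : {t : (SpecialLinearGroup (Fin (m + 1)) F) // IsDiag t} => ρ t.1) (fun a b => by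
      show ρ a.1 * ρ b.1 = ρ b.1 * ρ a.1
      rw [← map_mul, ← map_mul, (a.2.commute b.2).eq]) W hW
    (fun t w hw u hu => by
      have h1 : t.1⁻¹ * u * t.1 ∈ Up (m + 1) F := by
        have hd : IsDiag t.1⁻¹ := by
          intro a b hab
          have he := t.2.eq_diagonal
          have hu1 : (t.1⁻¹ : (SpecialLinearGroup (Fin (m + 1)) F)).1 * t.1.1 = 1 := congrArg Subtype.val (inv_mul_cancel t.1)
          have h2 := congrFun (congrFun hu1 a) b
          rw [he, Matrix.mul_diagonal, Matrix.one_apply_ne hab] at h2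
          exact (mul_eq_zero.1 h2).resolve_right (t.2.isMono.ne_zero b)
        simpa using hd.conj_upper hu
      show ρ u (ρ t.1 w) = ρ t.1 w
      conv_rhs => rw [← hw _ h1]
      rw [← Module.End.mul_apply, ← map_mul, ← Module.End.mul_apply, ← map_mul]
      congr 2
      group)
  have hlo0 : normLo ρ v₀ ≠ 0 := normLo_ne_zero (p := p) hirr hN hv₀ hv₀W fun t ht => ⟨_, hμ ⟨t, ht⟩⟩
  obtain ⟨m0, -, ε0, hm0⟩ := exists_mono (H := (⊤ : Subgroup (SpecialLinearGroup (Fin (m + 1)) F))) (fun _ => Subgroup.mem_top _) (Fin.revPerm)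
  -- the vector fixed by the lower group
  set w := ρ m0 v₀ with hw
  have hwlo : ∀ l ∈ Lo (m + 1) F, ρ l w = w := by
    intro l hl
    have h1 : m0⁻¹ * l * m0 ∈ Up (m + 1) F := by
      refine mem_uniSL_iff.2 fun a b hba => ?_
      have he : (m0 * (m0⁻¹ * l * m0) * m0⁻¹ : (SpecialLinearGroup (Fin (m + 1)) F)).1 (Fin.revPerm a) (Fin.revPerm b) * ε0 b =
          ε0 a * (m0⁻¹ * l * m0).1 a b := hm0.conj_entry _ a b
      rw [show m0 * (m0⁻¹ * l * m0) * m0⁻¹ = l by group,
        show l.1 (Fin.revPerm a) (Fin.revPerm b) = _ from hl _ _ (Fin.rev_le_rev.2 hba)] at he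
      by_cases hab : a = b
      · subst hab
        rw [if_pos rfl, one_mul] at he
        rw [if_pos rfl]
        exact mul_left_cancel₀ (hm0.ne_zero a) (he.symm.trans (mul_one _).symm)
      · rw [if_neg (Fin.revPerm.injective.ne hab), zero_mul, eq_comm, mul_eq_zero] at he
        rw [if_neg hab]
        exact he.resolve_left (hm0.ne_zero a)
    rw [hw, ← Module.End.mul_apply, ← map_mul, show l * m0 = m0 * (m0⁻¹ * l * m0) by group, map_mul,
      Module.End.mul_apply, hv₀W _ h1]
  have hwT : ∀ t : (SpecialLinearGroup (Fin (m + 1)) F), IsDiag t → ∃ c : k, ρ t w = c • w := by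
    intro t ht
    have h1 : IsDiag (m0⁻¹ * t * m0) := by
      intro a b hab
      have he : (m0 * (m0⁻¹ * t * m0) * m0⁻¹ : (SpecialLinearGroup (Fin (m + 1)) F)).1 (Fin.revPerm a) (Fin.revPerm b) * ε0 b =
          ε0 a * (m0⁻¹ * t * m0).1 a b := hm0.conj_entry _ a b
      rw [show m0 * (m0⁻¹ * t * m0) * m0⁻¹ = t by group, ht _ _ (Fin.revPerm.injective.ne hab), zero_mul, eq_comm,
        mul_eq_zero] at he
      exact he.resolve_left (hm0.ne_zero a)
    refine ⟨μ ⟨_, h1⟩, ?_⟩
    rw [hw, ← map_smul, ← hμ ⟨_, h1⟩, ← Module.End.mul_apply, ← Module.End.mul_apply, ← map_mul, ← map_mul]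
    congr 2
    group
  set v := normUp ρ w with hv
  have hvne : v ≠ 0 := by
    rw [hv, hw, normUp_apply_mono hm0]
    exact fun h => hlo0 (by
      have := congrArg (ρ m0⁻¹) h
      rwa [map_zero, ← Module.End.mul_apply, ← map_mul, inv_mul_cancel, map_one, Module.End.one_apply] at this)
  have hvup : ∀ u ∈ Up (m + 1) F, ρ u v = v := fun u hu => normUp_fixed ρ hu w
  have hvT : ∀ t : (SpecialLinearGroup (Fin (m + 1)) F), IsDiag t → ∀ c : k, ρ t w = c • w → ρ t v = c • v := by
    intro t ht c hc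
    have : ρ t v = normUp ρ (ρ t w) := by
      simp only [hv, normUp, LinearMap.sum_apply, map_sum]
      refine Fintype.sum_bijective (fun u : Up (m + 1) F => (⟨t * u.1 * t⁻¹, ht.conj_upper u.2⟩ : Up (m + 1) F))
        (Finite.injective_iff_bijective.1 fun a b h => Subtype.ext
          (mul_left_cancel (mul_right_cancel (congrArg Subtype.val h)))) _ _ fun u => ?_
      show ρ t (ρ u.1 w) = ρ (t * u.1 * t⁻¹) (ρ t w)
      simp only [map_mul, Module.End.mul_apply]
      rw [show ρ t⁻¹ (ρ t w) = w from (Module.End.mul_apply _ _ _).symm.trans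
        (by rw [← map_mul, inv_mul_cancel, map_one, Module.End.one_apply])]
    rw [this, hc, map_smul]
  have hvlo : normLo ρ v ≠ 0 := normLo_ne_zero (p := p) hirr hN hvne hvup fun t ht =>
    (hwT t ht).elim fun c hc => ⟨c, hvT t ht c hc⟩
  have main : ∀ (i j : Fin (m + 1)), j.val = i.val + 1 → ∀ (h : i ≠ j),
      (∀ (c : F) (hc : c ≠ 0), ρ (SpecialLinearGroup.diag2n h c hc) v = v) ∧
        ∑ z : F, ρ (SpecialLinearGroup.transvection h.symm z) v = -ρ (weyl h) v := by
    intro i j hij h
    have hdiag : ∀ (a : F) (ha : a ≠ 0), IsDiag (SpecialLinearGroup.diag2n h a ha : (SpecialLinearGroup (Fin (m + 1)) F)) := fun a ha x y hxy => by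
      rw [(isMono_diag2n h ha) x y, Equiv.Perm.one_apply, if_neg hxy]
    choose θ₀ hθ₀ using fun u : Fˣ => hwT _ (hdiag u.1 u.ne_zero)
    have hwne : w ≠ 0 := fun e => hvne (by rw [hv, e, map_zero])
    have hθ1 : θ₀ 1 = 1 := smul_left_injective k hwne (by
      show θ₀ 1 • w = (1 : k) • w
      rw [← hθ₀ 1, one_smul]
      simp [diag2n_one h])
    have hθmul : ∀ a b, θ₀ (a * b) = θ₀ a * θ₀ b := fun a b => smul_left_injective k hwne (by
      show θ₀ (a * b) • w = (θ₀ a * θ₀ b) • w
      rw [← hθ₀ (a * b), mul_comm (θ₀ a), mul_smul, ← hθ₀ a, ← map_smul, ← hθ₀ b]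
      show ρ (SpecialLinearGroup.diag2n h ((a : F) * b) (mul_ne_zero a.ne_zero b.ne_zero)) w = _
      rw [← diag2n_mul h a.ne_zero b.ne_zero, map_mul, Module.End.mul_apply])
    let θ : Fˣ →* k := { toFun := θ₀, map_one' := hθ1, map_mul' := hθmul }
    have hilt : i < j := by rw [Fin.lt_def]; omega
    set A : Module.End k V := ∑ a : F, ρ (SpecialLinearGroup.transvection h a) with hA
    set A' : Module.End k V := ∑ a : F, ρ (SpecialLinearGroup.transvection h.symm a) with hA'
    let K := {u : Up (m + 1) F // u.1.1 i j = 0}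
    set B : Module.End k V := ∑ u : K, ρ u.1.1 with hB
    have hXU : ∀ a : F, SpecialLinearGroup.transvection h a ∈ Up (m + 1) F := fun a => transvection_mem_up hilt a
    have hNU : ∀ x : V, normUp ρ x = B (A x) := by
      intro x
      simp only [normUp, hA, hB, LinearMap.sum_apply, map_sum]
      rw [sum_split (Up (m + 1) F) (fun a => SpecialLinearGroup.transvection h a) hXU (transvection_add h)
        (fun g => g.1 i j) (fun g hg a => by rw [adj_add hij hg (hXU a), transvection_entry]) (fun g => ρ g x),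
        Finset.sum_comm]
      simp only [map_mul, Module.End.mul_apply]
      rfl
    have hcommB : ∀ (g : (SpecialLinearGroup (Fin (m + 1)) F)) (hg : ∀ u : K, g * u.1.1 * g⁻¹ ∈ Up (m + 1) F ∧ (g * u.1.1 * g⁻¹ : (SpecialLinearGroup (Fin (m + 1)) F)).1 i j = 0),
        ρ g * B = B * ρ g := by
      intro g hg
      rw [hB, Finset.mul_sum, Finset.sum_mul]
      refine Fintype.sum_bijective (fun u : K => (⟨⟨g * u.1.1 * g⁻¹, (hg u).1⟩, (hg u).2⟩ : K))
        (Finite.injective_iff_bijective.1 fun a b e => Subtype.ext (Subtype.ext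
          (mul_left_cancel (mul_right_cancel (congrArg (fun z : K => (z.1.1 : (SpecialLinearGroup (Fin (m + 1)) F))) e))))) _ _ fun u => ?_
      rw [← map_mul, ← map_mul, inv_mul_cancel_right]
    have hsB : ρ (weyl h) * B = B * ρ (weyl h) := hcommB _ fun u => weyl_conj_upper hij h u.1.2 u.2
    have hAB : A * B = B * A := by
      rw [hA, Finset.sum_mul, Finset.mul_sum]
      refine Finset.sum_congr rfl fun a _ => hcommB _ fun u => ⟨?_, ?_⟩
      · exact (Up (m + 1) F).mul_mem ((Up (m + 1) F).mul_mem (hXU a) u.1.2) ((Up (m + 1) F).inv_mem (hXU a))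
      · have hU1 := (Up (m + 1) F).mul_mem (hXU a) u.1.2
        have hinv : (SpecialLinearGroup.transvection h a : (SpecialLinearGroup (Fin (m + 1)) F))⁻¹ = SpecialLinearGroup.transvection h (-a) :=
          inv_eq_of_mul_eq_one_right (by rw [← transvection_add, add_neg_cancel, transvection_zero])
        rw [hinv, adj_add hij hU1 (hXU _), adj_add hij (hXU a) u.1.2, transvection_entry, transvection_entry, u.2]
        ring
    have hAX : ∀ b : F, A * ρ (SpecialLinearGroup.transvection h b) = A := fun b => by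
      rw [hA, Finset.sum_mul]
      refine Fintype.sum_equiv (Equiv.addRight b) _ _ fun a => ?_
      rw [← map_mul, ← transvection_add]
      rfl
    have hAs : A * ρ (weyl h) = ρ (weyl h) * A' := by
      rw [hA, hA', Finset.sum_mul, Finset.mul_sum]
      refine Fintype.sum_equiv (Equiv.neg F) _ _ fun a => ?_
      rw [← map_mul, ← map_mul, transvection_mul_weyl h a]
      rfl
    have hA'w : A' w = 0 := by
      rw [hA', LinearMap.sum_apply, Finset.sum_congr rfl (fun a _ => hwlo _ (transvection_mem_lo hilt a)),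
        Finset.sum_const, Finset.card_univ, ← Nat.cast_smul_eq_nsmul k, card_cast_eq_zero (p := p), zero_smul]
    set c : k := ∑ u : Fˣ, θ u with hc
    have hterm : A (ρ (weyl h) (A w)) = c • A w := by
      have hexp : A (ρ (weyl h) (A w)) =
          ∑ x : F, A (ρ (weyl h * SpecialLinearGroup.transvection h x) w) := by
        conv_lhs => rw [hA]
        simp only [LinearMap.sum_apply, map_sum, map_mul, Module.End.mul_apply]
        rw [hA]
        simp only [LinearMap.sum_apply]
      rw [hexp, ← Finset.add_sum_erase _ _ (Finset.mem_univ (0 : F))]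
      have h0 : A (ρ (weyl h * SpecialLinearGroup.transvection h 0) w) = 0 := by
        rw [transvection_zero, mul_one, ← Module.End.mul_apply, hAs, Module.End.mul_apply, hA'w, map_zero]
      rw [h0, zero_add, hc, Finset.sum_smul]
      refine Finset.sum_bij' (fun x hx => Units.mk0 (-x⁻¹) (by simpa using (Finset.mem_erase.1 hx).1))
        (fun u _ => -(u : F)⁻¹) (fun _ _ => Finset.mem_univ _) (fun u _ => by simp) (fun x _ => by simp)
        (fun u _ => by ext; simp) fun x hx => ?_
      have hx0 : x ≠ 0 := (Finset.mem_erase.1 hx).1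
      rw [weyl_mul_upper h hx0, map_mul, map_mul, Module.End.mul_apply, Module.End.mul_apply,
        hwlo _ (transvection_mem_lo hilt _)]
      rw [show ρ (SpecialLinearGroup.diag2n h (-x⁻¹) (neg_ne_zero.2 (inv_ne_zero hx0))) w =
        θ₀ (Units.mk0 (-x⁻¹) (neg_ne_zero.2 (inv_ne_zero hx0))) • w from
          hθ₀ (Units.mk0 (-x⁻¹) (neg_ne_zero.2 (inv_ne_zero hx0))),
        map_smul, map_smul, ← Module.End.mul_apply, hAX]
      rfl
    have hTv : A (ρ (weyl h) v) = c • v := by
      rw [hv, hNU w, ← Module.End.mul_apply (ρ (weyl h)) B, hsB, Module.End.mul_apply, ← Module.End.mul_apply A B, hAB,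
        Module.End.mul_apply, hterm, map_smul]
    have hA'v : A (ρ (weyl h) v) = ρ (weyl h) (A' v) := by
      rw [← Module.End.mul_apply, hAs, Module.End.mul_apply]
    have hc0 : c ≠ 0 := by
      intro e
      rw [e, zero_smul] at hTv
      rw [hTv] at hA'v
      have hA'v0 : A' v = 0 := by
        have := congrArg (ρ (weyl h)⁻¹) hA'v
        rw [map_zero, ← Module.End.mul_apply, ← map_mul, inv_mul_cancel, map_one, Module.End.one_apply] at this
        exact this.symm
      refine hvlo ?_
      simp only [normLo, LinearMap.sum_apply]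
      have hYL : ∀ a : F, SpecialLinearGroup.transvection h.symm a ∈ Lo (m + 1) F := fun a => transvection_mem_lo hilt a
      rw [sum_split (Lo (m + 1) F) (fun a => SpecialLinearGroup.transvection h.symm a) hYL (transvection_add h.symm)
        (fun g => g.1 j i) (fun g hg a => by rw [adj_add_lower hij hg (hYL a), transvection_entry]) (fun g => ρ g v)]
      refine Finset.sum_eq_zero fun l _ => ?_
      simp only [map_mul, Module.End.mul_apply]
      rw [← map_sum, ← LinearMap.sum_apply, ← hA', hA'v0, map_zero]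
    have hθtriv : θ = 1 := by
      by_contra hne
      exact hc0 (sum_hom_units_eq_zero θ hne)
    have hθv : ∀ (a : F) (ha : a ≠ 0), ρ (SpecialLinearGroup.diag2n h a ha) v = v := fun a ha => by
      have h1 := hvT _ (hdiag a ha) _ (hθ₀ (Units.mk0 a ha))
      rwa [show θ₀ (Units.mk0 a ha) = 1 from DFunLike.congr_fun hθtriv (Units.mk0 a ha), one_smul] at h1
    have hcval : c = -1 := by
      rw [hc, Finset.sum_congr rfl (fun u _ => show θ u = 1 from DFunLike.congr_fun hθtriv u), Finset.sum_const,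
        Finset.card_univ, nsmul_one, Fintype.card_units, Nat.cast_sub Fintype.card_pos, card_cast_eq_zero (p := p)]
      simp
    refine ⟨hθv, ?_⟩
    rw [hTv, hcval, neg_one_smul] at hA'v
    have hs : ρ (weyl h)⁻¹ v = ρ (weyl h) v := by
      conv_rhs => rw [← inv_mul_cancel_left (weyl h) (weyl h : (SpecialLinearGroup (Fin (m + 1)) F)), map_mul, Module.End.mul_apply, weyl_sq h, hθv]
    have := congrArg (ρ (weyl h)⁻¹) hA'v
    rw [map_neg, hs, ← Module.End.mul_apply (ρ (weyl h)⁻¹), ← map_mul, inv_mul_cancel, map_one,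
      Module.End.one_apply, hA', LinearMap.sum_apply] at this
    exact this.symm
  exact ⟨v, ⟨hvup, fun i j hij h => (main i j hij h).1, fun i j hij h => (main i j hij h).2⟩, hvlo⟩

include hirr in
theorem loSpan_eq_top {v : V} (hv : Good ρ v) (hne : v ≠ 0) (hm : 1 ≤ m) : loSpan ρ v = ⊤ := by
  classical
  refine (hirr _ fun g w hw => hv.stable hm g hw).resolve_left fun h => hne ?_
  rw [← Submodule.mem_bot k, ← h]
  exact Submodule.subset_span ⟨1, by simp⟩

omit [DecidableEq F] in
theorem finrank_loSpan_le (v : V) : Module.finrank k (loSpan ρ v) ≤ Nat.card (Lo (m + 1) F) := by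
  rw [Nat.card_eq_fintype_card]
  exact finrank_range_le_card _

include p hpP hFp hkp in
omit [DecidableEq F] in
/-- If the lower norm does not kill `v` its lower translates are independent. -/
theorem linearIndependent_translates {v : V} (hlo : normLo ρ v ≠ 0) :
    LinearIndependent k fun u : Lo (m + 1) F => ρ u.1 v := by
  classical
  let f : (Lo (m + 1) F → k) →ₗ[k] V := Fintype.linearCombination k fun u : Lo (m + 1) F => ρ u.1 v
  rw [Fintype.linearIndependent_iff]
  intro g hg
  by_contra hne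
  have hgf : g ∈ LinearMap.ker f := by
    rw [LinearMap.mem_ker]
    simpa [f, Fintype.linearCombination_apply] using hg
  let act : Representation k (Lo (m + 1) F) (LinearMap.ker f) :=
    { toFun := fun g =>
        { toFun := fun x => ⟨fun u => x.1 (g⁻¹ * u), by
            rw [LinearMap.mem_ker]
            have h0 := congrArg (ρ g.1) (LinearMap.mem_ker.1 x.2)
            simp only [f, Fintype.linearCombination_apply, map_sum, map_smul, map_zero] at h0 ⊢
            rw [← h0]
            refine Fintype.sum_equiv (Equiv.mulLeft g⁻¹) _ _ fun u => ?_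
            rw [← Module.End.mul_apply, ← map_mul]
            simp⟩
          map_add' := fun _ _ => rfl
          map_smul' := fun _ _ => rfl }
      map_one' := LinearMap.ext fun x => Subtype.ext (funext fun u => by simp)
      map_mul' := fun a b => LinearMap.ext fun x => Subtype.ext (funext fun u => by simp [mul_assoc]) }
  have hx0 : g ≠ 0 := fun e => hne fun i => congrFun e i
  obtain ⟨y, hy0, hy⟩ := CfsgLib.Blocks.exists_fixed_ne_zero (F := k) (isPGroup_Lo (p := p)) act
    (v := (⟨g, hgf⟩ : LinearMap.ker f)) (fun h => hx0 (congrArg Subtype.val h))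
  have hconst : ∀ u : Lo (m + 1) F, y.1 u = y.1 1 := fun u => by
    have := congrFun (congrArg Subtype.val (hy u)) u
    simpa [act] using this.symm
  have h := LinearMap.mem_ker.1 y.2
  simp only [f, Fintype.linearCombination_apply] at h
  rw [Finset.sum_congr rfl fun u _ => by rw [hconst u], ← Finset.smul_sum, smul_eq_zero] at h
  rcases h with h | h
  · exact hy0 (Subtype.ext (funext fun u => (hconst u).trans h))
  · exact hlo (by simpa [normLo] using h)

include p hpP hFp hkp in
/-- **Uniqueness**: two simple modules on which the unipotent norm acts nontrivially are isomorphic. -/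
theorem exists_intertwiner [IsAlgClosed k] {V₁ V₂ : Type*} [AddCommGroup V₁] [Module k V₁] [FiniteDimensional k V₁]
    [AddCommGroup V₂] [Module k V₂] [FiniteDimensional k V₂] (hm : 1 ≤ m)
    (ρ₁ : Representation k (SpecialLinearGroup (Fin (m + 1)) F) V₁) (ρ₂ : Representation k (SpecialLinearGroup (Fin (m + 1)) F) V₂)
    (h₁ : ∀ W : Submodule k V₁, (∀ g : (SpecialLinearGroup (Fin (m + 1)) F), ∀ w ∈ W, ρ₁ g w ∈ W) → W = ⊥ ∨ W = ⊤) (hN₁ : normUp ρ₁ ≠ 0)
    (h₂ : ∀ W : Submodule k V₂, (∀ g : (SpecialLinearGroup (Fin (m + 1)) F), ∀ w ∈ W, ρ₂ g w ∈ W) → W = ⊥ ∨ W = ⊤) (hN₂ : normUp ρ₂ ≠ 0) :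
    ∃ e : V₁ ≃ₗ[k] V₂, ∀ g x, e (ρ₁ g x) = ρ₂ g (e x) := by
  classical
  obtain ⟨v₁, hv₁, hl₁⟩ := exists_good (p := p) h₁ hN₁
  obtain ⟨v₂, hv₂, hl₂⟩ := exists_good (p := p) h₂ hN₂
  have hn₁ : v₁ ≠ 0 := fun e => hl₁ (by rw [e, map_zero])
  have hn₂ : v₂ ≠ 0 := fun e => hl₂ (by rw [e, map_zero])
  have htop₁ := loSpan_eq_top h₁ hv₁ hn₁ hm
  have htop₂ := loSpan_eq_top h₂ hv₂ hn₂ hm
  have hd₁ : Module.finrank k V₁ = Nat.card (Lo (m + 1) F) := by
    rw [← finrank_top k V₁, ← htop₁, loSpan, finrank_span_eq_card (linearIndependent_translates (p := p) hl₁),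
      Nat.card_eq_fintype_card]
  have hd₂ : Module.finrank k V₂ = Nat.card (Lo (m + 1) F) := by
    rw [← finrank_top k V₂, ← htop₂, loSpan, finrank_span_eq_card (linearIndependent_translates (p := p) hl₂),
      Nat.card_eq_fintype_card]
  let ρ := ρ₁.prod ρ₂
  have hρ : ∀ g (x : V₁ × V₂), ρ g x = (ρ₁ g x.1, ρ₂ g x.2) := fun g x => rfl
  have hgood : Good ρ (v₁, v₂) := by
    refine ⟨fun u hu => ?_, fun i j hij h c hc => ?_, fun i j hij h => ?_⟩
    · rw [hρ, hv₁.up u hu, hv₂.up u hu]
    · rw [hρ, hv₁.torus i j hij h c hc, hv₂.torus i j hij h c hc]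
    · simp only [hρ]
      refine Prod.ext ?_ ?_
      · rw [Prod.fst_sum]; simpa using hv₁.rel i j hij h
      · rw [Prod.snd_sum]; simpa using hv₂.rel i j hij h
  let L := loSpan ρ (v₁, v₂)
  let f₁ : L →ₗ[k] V₁ := (LinearMap.fst k V₁ V₂).comp L.subtype
  let f₂ : L →ₗ[k] V₂ := (LinearMap.snd k V₁ V₂).comp L.subtype
  have hs₁ : Function.Surjective f₁ := by
    rw [← LinearMap.range_eq_top, eq_top_iff, ← htop₁, loSpan, Submodule.span_le]
    rintro _ ⟨u, rfl⟩
    exact ⟨⟨ρ u.1 (v₁, v₂), Submodule.subset_span ⟨u, rfl⟩⟩, rfl⟩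
  have hs₂ : Function.Surjective f₂ := by
    rw [← LinearMap.range_eq_top, eq_top_iff, ← htop₂, loSpan, Submodule.span_le]
    rintro _ ⟨u, rfl⟩
    exact ⟨⟨ρ u.1 (v₁, v₂), Submodule.subset_span ⟨u, rfl⟩⟩, rfl⟩
  have hL : Module.finrank k L ≤ Nat.card (Lo (m + 1) F) := finrank_loSpan_le (ρ := ρ) _
  have hi₁ : Function.Injective f₁ := by
    refine (LinearMap.injective_iff_surjective_of_finrank_eq_finrank ?_).2 hs₁
    have := LinearMap.finrank_le_finrank_of_surjective hs₁
    omega
  have hi₂ : Function.Injective f₂ := by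
    refine (LinearMap.injective_iff_surjective_of_finrank_eq_finrank ?_).2 hs₂
    have := LinearMap.finrank_le_finrank_of_surjective hs₂
    omega
  let e₁ := LinearEquiv.ofBijective f₁ ⟨hi₁, hs₁⟩
  let e₂ := LinearEquiv.ofBijective f₂ ⟨hi₂, hs₂⟩
  refine ⟨e₁.symm.trans e₂, fun g x => ?_⟩
  obtain ⟨y, rfl⟩ := e₁.surjective x
  simp only [LinearEquiv.trans_apply, LinearEquiv.symm_apply_apply]
  have hy : ρ g y.1 ∈ L := hgood.stable hm g y.2
  have h1 : ρ₁ g (e₁ y) = e₁ ⟨ρ g y.1, hy⟩ := rfl
  rw [h1, LinearEquiv.symm_apply_apply]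
  rfl

end CfsgLib.SLProjective
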